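import Cfsg.Agent.Lib.Classical.OmegaComm.Emb

/-!
# An isometry with a factorisable corner is a commutator

`Valid T` makes `v ↦ v D v⁻¹ D⁻¹` bijective on both unipotent radicals for `D = lev T`.
-/

set_option autoImplicit false
set_option linter.unusedSectionVars false

namespace CfsgLib.OmegaComm

open Matrix CfsgLib.SUComm CfsgLib.Classical

variable {F : Type*} [Field F] {α : Type} [Fintype α] [DecidableEq α]

/-- The lower unipotent element. -/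
def low (X : Matrix Unit α F) (Y : Matrix α α F) : Mat F α := blk 1 0 0 X 1 0 Y (-Xᵀ) 1

theorem iso_low {X : Matrix Unit α F} {Y : Matrix α α F} (h : Y + Xᵀ * X + Yᵀ = 0) : Iso (low X Y) := by
  have := gun_low (RingHom.id F) (X := X) (Y := Y) (fun _ => rfl) (by rw [ct_id, ct_id]; exact h)
  rw [ct_id] at this
  exact iso_iff_gun.2 this

theorem low_rel {X : Matrix Unit α F} {Y : Matrix α α F} (h : Iso (low X Y)) : Y + Xᵀ * X + Yᵀ = 0 := by
  simp only [Iso, low, jm_eq, transpose_blk, blk_mul, blk_inj] at h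
  have := h.1
  simp at this
  rw [← this]; abel

theorem low_mul (X X' : Matrix Unit α F) (Y Y' : Matrix α α F) :
    low X Y * low X' Y' = low (X + X') (Y + Y' - Xᵀ * X') := by
  simp only [low, blk_mul, blk_inj]
  refine ⟨?_, ?_, ?_, ?_, ?_, ?_, ?_, ?_, ?_⟩ <;> simp [transpose_add] <;> abel

theorem ji_low (X : Matrix Unit α F) (Y : Matrix α α F) : ji (low X Y) = low (-X) Yᵀ := by
  simp [low, ji_blk]

theorem om_low [Fintype F] (h2 : (2 : F) ≠ 0) {X : Matrix Unit α F} {Y : Matrix α α F}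
    (h : Y + Xᵀ * X + Yᵀ = 0) : Om (low X Y) := by
  let X' : Matrix Unit α F := (2 : F)⁻¹ • X
  let Y' : Matrix α α F := (2 : F)⁻¹ • (Y + X'ᵀ * X')
  have e : low X Y = low X' Y' * low X' Y' := by
    rw [low_mul, show X' + X' = X by simp only [X', ← add_smul]; rw [show (2 : F)⁻¹ + 2⁻¹ = 1 by field_simp; ring, one_smul],
      show Y' + Y' - X'ᵀ * X' = Y by
        simp only [Y', ← add_smul]
        rw [show (2 : F)⁻¹ + 2⁻¹ = 1 by field_simp; ring, one_smul, add_sub_cancel_right]]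
  rw [e]
  refine om_mul_self h2 (iso_low ?_)
  have hs : (X'ᵀ * X')ᵀ = X'ᵀ * X' := by rw [transpose_mul, transpose_transpose]
  have hX : Xᵀ * X = (4 : F) • (X'ᵀ * X') := by
    simp only [X', transpose_smul, Matrix.smul_mul, Matrix.mul_smul, smul_smul]
    rw [show (4 : F) * (2⁻¹ * 2⁻¹) = 1 by field_simp; ring, one_smul]
  rw [hX] at h
  have : Y' + X'ᵀ * X' + Y'ᵀ = (2 : F)⁻¹ • (Y + (4 : F) • (X'ᵀ * X') + Yᵀ) := by
    simp only [Y', transpose_smul, transpose_add, hs]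
    match_scalars <;> field_simp <;> ring
  rw [this, h, smul_zero]

theorem jm_low_jm (X : Matrix Unit α F) (Y : Matrix α α F) :
    jm F α * low X Y * jm F α = blk 1 (-Xᵀ) Y 0 1 X 0 0 1 := by
  simp [low, jm_eq, blk_mul]

theorem lev_conj_low {T : Matrix α α F} (hT : IsUnit T.det) (X : Matrix Unit α F) (Y : Matrix α α F) :
    lev T * low X Y * ji (lev T) = low (X * T⁻¹) (T⁻¹ᵀ * Y * T⁻¹) := by
  have h1 : T * T⁻¹ = 1 := mul_nonsing_inv _ hT
  have h2 : T⁻¹ᵀ * Tᵀ = 1 := by rw [← transpose_mul, h1, transpose_one]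
  simp [low, lev, ji_blk, blk_mul, nonsing_inv_nonsing_inv _ hT, h1, h2, Matrix.mul_assoc]

/-- The conditions on `T`. -/
def Valid (T : Matrix α α F) : Prop :=
  IsUnit T.det ∧ IsUnit (T - 1).det ∧ (∀ w : Matrix α α F, wᵀ = -w → Tᵀ * w * T = w → w = 0) ∧
    ∀ w : Matrix α α F, wᵀ = -w → T * w * Tᵀ = w → w = 0

theorem Valid.conj {T X : Matrix α α F} (h : Valid T) (hX : IsUnit X.det) : Valid (X * T * X⁻¹) := by
  obtain ⟨h1, h2, h3, h4⟩ := h
  have hX' : X⁻¹ * X = 1 := nonsing_inv_mul _ hX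
  have hX'' : X * X⁻¹ = 1 := mul_nonsing_inv _ hX
  have hXi : IsUnit X⁻¹.det := isUnit_nonsing_inv_det _ hX
  have hXt : X⁻¹ᵀ * Xᵀ = 1 := by rw [← transpose_mul, hX'', transpose_one]
  have hXt' : Xᵀ * X⁻¹ᵀ = 1 := by rw [← transpose_mul, hX', transpose_one]
  refine ⟨?_, ?_, fun w hw e => ?_, fun w hw e => ?_⟩
  · rw [det_mul, det_mul]; exact (hX.mul h1).mul hXi
  · rw [show X * T * X⁻¹ - 1 = X * (T - 1) * X⁻¹ by simp [Matrix.mul_sub, Matrix.sub_mul, hX''], det_mul, det_mul]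
    exact (hX.mul h2).mul hXi
  · have hh := h3 (Xᵀ * w * X) (by simp [transpose_mul, hw, Matrix.mul_assoc]) (by
      calc Tᵀ * (Xᵀ * w * X) * T = Xᵀ * (X⁻¹ᵀ * Tᵀ * Xᵀ * w * (X * T * X⁻¹)) * X := by
            simp only [← Matrix.mul_assoc, hXt', Matrix.one_mul]
            simp only [Matrix.mul_assoc, hX', Matrix.mul_one]
        _ = Xᵀ * w * X := by
            conv_rhs => rw [← e]
            simp only [transpose_mul, Matrix.mul_assoc])
    calc w = X⁻¹ᵀ * (Xᵀ * w * X) * X⁻¹ := by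
          simp only [← Matrix.mul_assoc, hXt, Matrix.one_mul]
          simp only [Matrix.mul_assoc, hX'', Matrix.mul_one]
      _ = 0 := by rw [hh, Matrix.mul_zero, Matrix.zero_mul]
  · have hh := h4 (X⁻¹ * w * X⁻¹ᵀ) (by simp [transpose_mul, hw, Matrix.mul_assoc]) (by
      calc T * (X⁻¹ * w * X⁻¹ᵀ) * Tᵀ = X⁻¹ * (X * T * X⁻¹ * w * (X⁻¹ᵀ * Tᵀ * Xᵀ)) * X⁻¹ᵀ := by
            simp only [← Matrix.mul_assoc, hX', Matrix.one_mul]
            simp only [Matrix.mul_assoc, hXt', Matrix.mul_one]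
        _ = _ := by
            conv_rhs => rw [← e]
            simp only [transpose_mul, Matrix.mul_assoc])
    calc w = X * (X⁻¹ * w * X⁻¹ᵀ) * Xᵀ := by
          simp only [← Matrix.mul_assoc, hX'', Matrix.one_mul]
          simp only [Matrix.mul_assoc, hXt, Matrix.mul_one]
      _ = 0 := by rw [hh, Matrix.mul_zero, Matrix.zero_mul]

theorem Valid.inv_transpose {T : Matrix α α F} (h : Valid T) : Valid T⁻¹ᵀ := by
  obtain ⟨h1, h2, h3, h4⟩ := h
  have e1 : T * T⁻¹ = 1 := mul_nonsing_inv _ h1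
  have e2 : T⁻¹ * T = 1 := nonsing_inv_mul _ h1
  have e3 : Tᵀ * T⁻¹ᵀ = 1 := by rw [← transpose_mul, e2, transpose_one]
  have e4 : T⁻¹ᵀ * Tᵀ = 1 := by rw [← transpose_mul, e1, transpose_one]
  refine ⟨?_, ?_, fun w hw e => h4 w hw ?_, fun w hw e => h3 w hw ?_⟩
  · rw [det_transpose]; exact isUnit_nonsing_inv_det _ h1
  · rw [show T⁻¹ᵀ - 1 = -(T⁻¹ * (T - 1))ᵀ by rw [Matrix.mul_sub, e2, Matrix.mul_one, transpose_sub, transpose_one]; abel,
      det_neg, det_transpose, det_mul]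
    exact (isUnit_one.neg.pow _).mul ((isUnit_nonsing_inv_det _ h1).mul h2)
  · rw [transpose_transpose] at e
    conv_rhs => rw [show w = T * (T⁻¹ * w * T⁻¹ᵀ) * Tᵀ by
      simp only [← Matrix.mul_assoc, e1, Matrix.one_mul]
      simp only [Matrix.mul_assoc, e4, Matrix.mul_one]]
    rw [e]
  · rw [transpose_transpose] at e
    conv_rhs => rw [show w = Tᵀ * (T⁻¹ᵀ * w * T⁻¹) * T by
      simp only [← Matrix.mul_assoc, e3, Matrix.one_mul]
      simp only [Matrix.mul_assoc, e2, Matrix.mul_one]]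
    rw [e]

variable [Fintype F]

/-- Every element of `U⁻ D` is conjugate to `D` under `U⁻`. -/
theorem exists_conj_low (h2 : (2 : F) ≠ 0) {T : Matrix α α F} (hT : Valid T) {X : Matrix Unit α F}
    {Y : Matrix α α F} (h : Y + Xᵀ * X + Yᵀ = 0) :
    ∃ v : Mat F α, Om v ∧ low X Y * lev T = v * lev T * ji v := by
  obtain ⟨h1, hT1, hw, -⟩ := hT
  have e1 : T * T⁻¹ = 1 := mul_nonsing_inv _ h1
  have e2 : T⁻¹ * T = 1 := nonsing_inv_mul _ h1
  have hu : IsUnit (1 - T⁻¹).det := by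
    rw [show (1 : Matrix α α F) - T⁻¹ = T⁻¹ * (T - 1) by rw [Matrix.mul_sub, e2, Matrix.mul_one], det_mul]
    exact (isUnit_nonsing_inv_det _ h1).mul hT1
  obtain ⟨Xv, hXv⟩ : ∃ Xv, Xv * (1 - T⁻¹) = X := ⟨X * (1 - T⁻¹)⁻¹, by
    rw [Matrix.mul_assoc, nonsing_inv_mul _ hu, Matrix.mul_one]⟩
  rw [Matrix.mul_sub, Matrix.mul_one] at hXv
  obtain ⟨Y₀, hY₀⟩ : ∃ Y₀ : Matrix α α F, Y₀ = -(2 : F)⁻¹ • (Xvᵀ * Xv) := ⟨_, rfl⟩
  have hs : (Xvᵀ * Xv)ᵀ = Xvᵀ * Xv := by rw [transpose_mul, transpose_transpose]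
  have hY₀t : Y₀ᵀ = Y₀ := by rw [hY₀, transpose_smul, hs]
  have hrel₀ : Y₀ + Xvᵀ * Xv + Y₀ᵀ = 0 := by
    rw [hY₀t, hY₀]
    match_scalars
    field_simp
    ring
  obtain ⟨Z, hZ⟩ : ∃ Z, Z = Y₀ + T⁻¹ᵀ * Y₀ * T⁻¹ + Xvᵀ * Xv * T⁻¹ := ⟨_, rfl⟩
  have hcomm : ∀ K : Matrix α α F, Kᵀ = -K → low Xv (Y₀ + K) * (lev T * ji (low Xv (Y₀ + K)) * ji (lev T)) =
      low X (Z + (K - T⁻¹ᵀ * K * T⁻¹)) := fun K hK => by
    rw [ji_low, lev_conj_low h1, low_mul, ← hXv, hZ, transpose_add, hK, hY₀t, Matrix.neg_mul, ← sub_eq_add_neg Xv]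
    congr 1
    simp only [Matrix.mul_add, Matrix.add_mul, Matrix.mul_neg, Matrix.neg_mul, ← Matrix.mul_assoc]
    abel
  have hisoK : ∀ K : Matrix α α F, Kᵀ = -K → Iso (low Xv (Y₀ + K)) := fun K hK => iso_low (by
    rw [transpose_add, hK, hY₀t]
    rw [hY₀t] at hrel₀
    rw [← hrel₀]; abel)
  have hZrel : Z + Xᵀ * X + Zᵀ = 0 := low_rel (by
    have hh := hcomm 0 (by simp)
    simp only [Matrix.mul_zero, Matrix.zero_mul, sub_zero, add_zero] at hh
    rw [← hh]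
    have h0 := hisoK 0 (by simp)
    rw [add_zero] at h0
    exact h0.mul (((iso_lev h1).mul h0.ji).mul (iso_lev h1).ji))
  let S : Submodule F (Matrix α α F) :=
    { carrier := {K | Kᵀ = -K}
      add_mem' := fun {a b} (ha : aᵀ = -a) (hb : bᵀ = -b) => show (a + b)ᵀ = -(a + b) by
        rw [transpose_add, ha, hb, neg_add]
      zero_mem' := show (0 : Matrix α α F)ᵀ = -0 by simp
      smul_mem' := fun c a (ha : aᵀ = -a) => show (c • a)ᵀ = -(c • a) by rw [transpose_smul, ha, smul_neg] }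
  let L₀ : Matrix α α F →ₗ[F] Matrix α α F :=
    LinearMap.id - (LinearMap.mulRight F T⁻¹).comp (LinearMap.mulLeft F T⁻¹ᵀ)
  have hL₀ : ∀ K, L₀ K = K - T⁻¹ᵀ * K * T⁻¹ := fun K => rfl
  let L : S →ₗ[F] S := L₀.restrict fun K (hK : Kᵀ = -K) => show (L₀ K)ᵀ = -(L₀ K) by
    rw [hL₀, transpose_sub, transpose_mul, transpose_mul, transpose_transpose, hK, Matrix.neg_mul, Matrix.mul_neg,
      Matrix.mul_assoc T⁻¹ᵀ]
    abel
  have hLinj : Function.Injective L := (injective_iff_map_eq_zero L).2 fun K hK => by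
    have e : K.1 = T⁻¹ᵀ * K.1 * T⁻¹ := sub_eq_zero.1 (congrArg Subtype.val hK)
    refine Subtype.ext (hw K.1 K.2 ?_)
    conv_lhs => rw [e]
    have e3 : Tᵀ * T⁻¹ᵀ = 1 := by rw [← transpose_mul, e2, transpose_one]
    simp only [← Matrix.mul_assoc, e3, Matrix.one_mul]
    rw [Matrix.mul_assoc, e2, Matrix.mul_one]
  obtain ⟨K, hK⟩ := (LinearMap.injective_iff_surjective.1 hLinj) ⟨Y - Z, show (Y - Z)ᵀ = -(Y - Z) by
    rw [transpose_sub, eq_neg_of_add_eq_zero_right h, eq_neg_of_add_eq_zero_right hZrel]; abel⟩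
  have hK' : K.1 - T⁻¹ᵀ * K.1 * T⁻¹ = Y - Z := congrArg Subtype.val hK
  refine ⟨low Xv (Y₀ + K.1), om_low h2 (low_rel (hisoK _ K.2)), ?_⟩
  have := hcomm K.1 K.2
  rw [hK', add_sub_cancel] at this
  rw [← this]
  simp only [Matrix.mul_assoc]
  rw [(iso_lev h1).ji_mul', Matrix.mul_one]

/-- Lower unipotent, Levi, upper unipotent. -/
theorem exists_ldu (h2 : (2 : F) ≠ 0) {M : Mat F α} (hM : Iso M) (hdet : M.det = 1)
    (hau : IsUnit M.toBlocks₁₁.det) :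
    ∃ (X₀ : Matrix Unit α F) (Y₀ : Matrix α α F) (X₁ : Matrix Unit α F) (Y₁ : Matrix α α F),
      Y₀ + X₀ᵀ * X₀ + Y₀ᵀ = 0 ∧ Y₁ + X₁ᵀ * X₁ + Y₁ᵀ = 0 ∧
        M = low X₀ Y₀ * lev M.toBlocks₁₁ * (jm F α * low X₁ Y₁ * jm F α) := by
  obtain ⟨a, b, c, d, e, f, g, h, i, rfl⟩ := exists_blk M
  simp only [blk, toBlocks_fromBlocks₁₁] at hau
  obtain ⟨X₀, Y₀, c', f', i', hN, hU, hMNU, hi', hC⟩ :=
    exists_factor (RingHom.id F) (fun _ => rfl) (iso_iff_gun.1 hM) (mul_nonsing_inv _ hau)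
  rw [ct_id] at hN hMNU hi' hC
  have hC1 : e - d * a⁻¹ * b = 1 := by
    have hd := hdet
    rw [hMNU, det_mul, det_blk_lower, det_blk_upper] at hd
    have hi : a.det * i'.det = 1 := by
      have := congrArg det hi'
      rwa [det_mul, det_transpose, det_one] at this
    simp only [det_one, one_mul, mul_one] at hd
    have : (e - d * a⁻¹ * b).det = 1 := by
      linear_combination hd - (e - d * a⁻¹ * b).det * hi
    ext u u'
    obtain rfl := Subsingleton.elim u u'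
    rwa [Matrix.det_eq_elem_of_subsingleton _ u, ← Matrix.one_apply_eq u] at this
  rw [hC1] at hU hMNU
  have hai : a⁻¹ * a = 1 := nonsing_inv_mul _ hau
  obtain ⟨U, hUdef⟩ : ∃ U : Mat F α, U = lev a⁻¹ * blk a b c' 0 1 f' 0 0 i' := ⟨_, rfl⟩
  have hUI : Iso U := hUdef ▸ (iso_lev (isUnit_nonsing_inv_det _ hau)).mul (iso_iff_gun.2 hU)
  have hUe : U = blk 1 (a⁻¹ * b) (a⁻¹ * c') 0 1 f' 0 0 1 := by
    rw [hUdef, lev, blk_mul, nonsing_inv_nonsing_inv _ hau]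
    simp [hai, hi']
  have hb : a⁻¹ * b = -f'ᵀ := by
    have hh := hUI
    rw [hUe] at hh
    simp only [Iso, jm_eq, transpose_blk, blk_mul, blk_inj] at hh
    have := hh.2.2.2.2.2.1
    simp at this
    rw [← transpose_transpose (a⁻¹ * b), transpose_mul, eq_neg_of_add_eq_zero_right this, transpose_neg]
  have hUlow : U = jm F α * low f' (a⁻¹ * c') * jm F α := by rw [jm_low_jm, hUe, hb]
  have hrel : a⁻¹ * c' + f'ᵀ * f' + (a⁻¹ * c')ᵀ = 0 := low_rel (by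
    have := (iso_jm.mul hUI).mul iso_jm
    rw [hUlow] at this
    simp only [Matrix.mul_assoc, jm_mul_jm, Matrix.mul_one] at this
    rwa [← Matrix.mul_assoc, jm_mul_jm, Matrix.one_mul] at this)
  have hMd : blk a b c d e f g h i = low X₀ Y₀ * lev a * U := by
    rw [hMNU, hUdef, Matrix.mul_assoc, ← Matrix.mul_assoc (lev a), lev_mul, mul_nonsing_inv _ hau, lev_one,
      Matrix.one_mul]
    rfl
  refine ⟨X₀, Y₀, f', a⁻¹ * c', low_rel (iso_iff_gun.2 hN : Iso (low X₀ Y₀)), hrel, ?_⟩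
  simp only [blk, toBlocks_fromBlocks₁₁]
  rw [← hUlow]
  exact hMd

/-- The factorisation. -/
theorem exists_pair (h2 : (2 : F) ≠ 0) {M : Mat F α} (hM : Iso M) (hdet : M.det = 1) {T X Y : Matrix α α F}
    (hT : Valid T) (hX : IsUnit X.det) (hY : IsUnit Y.det)
    (ha : M.toBlocks₁₁ * (Y * T * Y⁻¹) = X * T * X⁻¹) :
    ∃ v w : Mat F α, Om v ∧ Om w ∧ ∀ Z : Matrix α α F, Z * T = T * Z →
      M * (w * lev (Y * Z * X⁻¹) * ji v * (v * lev (X * T * X⁻¹) * ji v)) =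
        v * lev (X * T * X⁻¹) * ji v * (w * lev (Y * Z * X⁻¹) * ji v) := by
  obtain ⟨P, hP⟩ : ∃ P, P = X * T * X⁻¹ := ⟨_, rfl⟩
  obtain ⟨Q, hQ⟩ : ∃ Q, Q = Y * T * Y⁻¹ := ⟨_, rfl⟩
  have hPv : Valid P := hP ▸ hT.conj hX
  have hQv : Valid Q := hQ ▸ hT.conj hY
  rw [← hP, ← hQ] at ha
  rw [← hP]
  obtain ⟨a, hadef⟩ : ∃ a, a = M.toBlocks₁₁ := ⟨_, rfl⟩
  rw [← hadef] at ha
  have hau : IsUnit a.det := by
    have := congrArg det ha
    rw [det_mul] at this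
    exact (IsUnit.mul_iff.1 (by rw [this]; exact hPv.1)).1
  obtain ⟨X₀, Y₀, X₁, Y₁, hrel₀, hrel, hMd⟩ := exists_ldu h2 hM hdet (hadef ▸ hau)
  rw [← hadef] at hMd
  obtain ⟨U, hUdef⟩ : ∃ U, U = jm F α * low X₁ Y₁ * jm F α := ⟨_, rfl⟩
  rw [← hUdef] at hMd
  have hUI : Iso U := hUdef ▸ (iso_jm.mul (iso_low hrel)).mul iso_jm
  obtain ⟨v, hv, hve⟩ := exists_conj_low h2 hPv hrel₀
  obtain ⟨u, hu, hue⟩ := exists_conj_low h2 hQv.inv_transpose (X := -X₁) (Y := Y₁ᵀ) (by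
    rw [← hrel]; simp only [transpose_transpose, transpose_neg, Matrix.neg_mul, Matrix.mul_neg, neg_neg]; abel)
  have hjl : lev Q = jm F α * lev Q⁻¹ᵀ * jm F α := by
    simp [lev, jm_eq, blk_mul, transpose_nonsing_inv, nonsing_inv_nonsing_inv _ (det_transpose Q ▸ hQv.1)]
  have hjm : ∀ A : Mat F α, jm F α * (jm F α * A) = A := fun A => by
    rw [← Matrix.mul_assoc, jm_mul_jm, Matrix.one_mul]
  have hjj : ji (jm F α) = jm F α := by simp [ji]
  obtain ⟨w, hwdef⟩ : ∃ w, w = jm F α * u * jm F α := ⟨_, rfl⟩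
  have hw : Om w := by
    have := hu.conj h2 (iso_jm (F := F) (α := α))
    rwa [hjj, ← hwdef] at this
  have hB : ji U * lev Q = w * lev Q * ji w := by
    rw [hUdef, ji_mul, ji_mul, hjj, ji_low, hjl, hwdef, ji_mul, ji_mul, hjj]
    simp only [Matrix.mul_assoc, hjm]
    rw [← Matrix.mul_assoc (low (-X₁) Y₁ᵀ), hue]
    simp only [Matrix.mul_assoc]
  refine ⟨v, w, hv, hw, fun Z hZ => ?_⟩
  have hA : M * (ji U * lev Q) = v * lev P * ji v := by
    rw [hMd, Matrix.mul_assoc, ← Matrix.mul_assoc U, hUI.mul_ji, Matrix.one_mul, Matrix.mul_assoc, lev_mul, ha, hve]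
  have key : w * lev (Y * Z * X⁻¹) * ji v * (v * lev P * ji v) = (ji U * lev Q) * (w * lev (Y * Z * X⁻¹) * ji v) := by
    rw [hB]
    have hX' : X⁻¹ * X = 1 := nonsing_inv_mul _ hX
    have hY' : Y⁻¹ * Y = 1 := nonsing_inv_mul _ hY
    calc w * lev (Y * Z * X⁻¹) * ji v * (v * lev P * ji v)
        = w * (lev (Y * Z * X⁻¹) * (ji v * v) * lev P) * ji v := by simp only [Matrix.mul_assoc]
      _ = w * lev (Y * (Z * T) * X⁻¹) * ji v := by
          rw [(hv.iso h2).ji_mul', Matrix.mul_one, lev_mul, hP,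
            show Y * Z * X⁻¹ * (X * T * X⁻¹) = Y * Z * (X⁻¹ * X) * T * X⁻¹ by simp only [Matrix.mul_assoc], hX',
            Matrix.mul_one, Matrix.mul_assoc Y Z T]
      _ = w * (lev Q * (ji w * w) * lev (Y * Z * X⁻¹)) * ji v := by
          rw [(hw.iso h2).ji_mul', Matrix.mul_one, lev_mul, hQ,
            show Y * T * Y⁻¹ * (Y * Z * X⁻¹) = Y * T * (Y⁻¹ * Y) * Z * X⁻¹ by simp only [Matrix.mul_assoc], hY',
            Matrix.mul_one, Matrix.mul_assoc Y T Z, hZ]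
      _ = _ := by simp only [Matrix.mul_assoc]
  rw [key, ← Matrix.mul_assoc, hA]

end CfsgLib.OmegaComm
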