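import Cfsg.Agent.Lib.Classical.OmegaComm.Shape

/-!
# Adjusting the corner by upper unipotent conjugation
-/

set_option autoImplicit false
set_option linter.unusedSectionVars false

namespace CfsgLib.OmegaComm

open Matrix CfsgLib.SUComm CfsgLib.Classical

variable {F : Type*} [Field F] {α : Type} [Fintype α] [DecidableEq α]

/-- The corner. -/
def corner (M : Mat F α) : Matrix α α F := M.toBlocks₁₁

/-- The lower left block. -/
def gblk (M : Mat F α) : Matrix α α F := M.toBlocks₂₁.toRows₂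

/-- The middle left block. -/
def dblk (M : Mat F α) : Matrix Unit α F := M.toBlocks₂₁.toRows₁

section blk

variable (a : Matrix α α F) (b : Matrix α Unit F) (c : Matrix α α F) (d : Matrix Unit α F)
  (e : Matrix Unit Unit F) (f : Matrix Unit α F) (g : Matrix α α F) (h : Matrix α Unit F) (i : Matrix α α F)

@[simp] theorem corner_blk : corner (blk a b c d e f g h i) = a := rfl
@[simp] theorem gblk_blk : gblk (blk a b c d e f g h i) = g := by simp [gblk, blk]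
@[simp] theorem dblk_blk : dblk (blk a b c d e f g h i) = d := by simp [dblk, blk]

end blk

theorem Iso.corner_rel {M : Mat F α} (hM : Iso M) :
    (corner M)ᵀ * gblk M + (dblk M)ᵀ * dblk M + (gblk M)ᵀ * corner M = 0 := by
  obtain ⟨a, b, c, d, e, f, g, h, i, rfl⟩ := exists_blk M
  simp only [Iso, jm_eq, transpose_blk, blk_mul, blk_inj] at hM
  have := hM.1
  simp at this
  rw [corner_blk, gblk_blk, dblk_blk, ← this]
  abel

/-- The corner of every conjugate with invertible corner has square determinant. -/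
def SqCorner (M : Mat F α) : Prop :=
  ∀ P, Iso P → (corner (P * M * ji P)).det ≠ 0 → IsSquare (corner (P * M * ji P)).det

theorem Om.sqCorner [Fintype F] (h2 : (2 : F) ≠ 0) {M : Mat F α} (hM : Om M) : SqCorner M := by
  intro P hP hne
  have hM' := hM.conj h2 hP
  obtain ⟨X₀, Y₀, X₁, Y₁, h0, h1, e⟩ := exists_ldu h2 (hM'.iso h2) (hM'.det h2) (isUnit_iff_ne_zero.2 hne)
  obtain ⟨U, hU⟩ : ∃ U, U = jm F α * low X₁ Y₁ * jm F α := ⟨_, rfl⟩
  have hUo : Om U := by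
    have := (om_low h2 h1).conj h2 (iso_jm (F := F) (α := α))
    rwa [show OmegaComm.ji (jm F α) = jm F α by simp [OmegaComm.ji], ← hU] at this
  rw [← hU] at e
  have hlev : lev (corner (P * M * OmegaComm.ji P)) = OmegaComm.ji (low X₀ Y₀) * (P * M * OmegaComm.ji P) * OmegaComm.ji U := by
    calc lev (corner (P * M * OmegaComm.ji P))
        = (OmegaComm.ji (low X₀ Y₀) * low X₀ Y₀) * lev (corner (P * M * OmegaComm.ji P)) * (U * OmegaComm.ji U) := by
          rw [(iso_low h0).ji_mul', (hUo.iso h2).mul_ji, Matrix.one_mul, Matrix.mul_one]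
      _ = OmegaComm.ji (low X₀ Y₀) * (low X₀ Y₀ * lev (corner (P * M * OmegaComm.ji P)) * U) * OmegaComm.ji U := by
          simp only [Matrix.mul_assoc]
      _ = _ := by rw [show low X₀ Y₀ * lev (corner (P * M * OmegaComm.ji P)) * U = P * M * OmegaComm.ji P from e.symm]
  exact (om_lev_iff h2 (isUnit_iff_ne_zero.2 hne)).1 (hlev ▸ ((((om_low h2 h0).ji h2).mul hM').mul (hUo.ji h2)))

/-- The upper unipotent element. -/
def upp (v : Matrix α Unit F) (K : Matrix α α F) : Mat F α := blk 1 v K 0 1 (-vᵀ) 0 0 1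

theorem iso_upp {v : Matrix α Unit F} {K : Matrix α α F} (h : K + Kᵀ + v * vᵀ = 0) : Iso (upp v K) := by
  refine iso_of_ji_mul ?_
  simp only [upp, ji_blk, transpose_one, transpose_zero, transpose_neg, transpose_transpose, blk_mul, blk_one,
    blk_inj]
  refine ⟨?_, ?_, ?_, ?_, ?_, ?_, ?_, ?_, ?_⟩ <;> simp
  rw [← h]; abel

theorem conj_upp (v : Matrix α Unit F) (K : Matrix α α F) (M : Mat F α) :
    corner (upp v K * M * ji (upp v K)) = corner M + v * dblk M + K * gblk M ∧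
      gblk (upp v K * M * ji (upp v K)) = gblk M ∧
      dblk (upp v K * M * ji (upp v K)) = dblk M - vᵀ * gblk M := by
  obtain ⟨a, b, c, d, e, f, g, h, i, rfl⟩ := exists_blk M
  simp only [upp, ji_blk, blk_mul, corner_blk, gblk_blk, dblk_blk]
  refine ⟨?_, ?_, ?_⟩ <;> simp [sub_eq_add_neg]

theorem conj_lev {B : Matrix α α F} (hB : IsUnit B.det) (M : Mat F α) :
    corner (lev B⁻¹ * M * ji (lev B⁻¹)) = B⁻¹ * corner M * B ∧
      gblk (lev B⁻¹ * M * ji (lev B⁻¹)) = Bᵀ * gblk M * B ∧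
      dblk (lev B⁻¹ * M * ji (lev B⁻¹)) = dblk M * B := by
  obtain ⟨a, b, c, d, e, f, g, h, i, rfl⟩ := exists_blk M
  simp [lev, ji_blk, blk_mul, nonsing_inv_nonsing_inv _ hB]

theorem iso_conj {P M : Mat F α} (hP : Iso P) (hM : Iso M) : Iso (P * M * ji P) := (hP.mul hM).mul hP.ji

theorem conj_conj (P Q M : Mat F α) : Q * (P * M * ji P) * ji Q = Q * P * M * ji (Q * P) := by
  rw [ji_mul]
  simp only [Matrix.mul_assoc]

theorem SqCorner.conj {M P : Mat F α} (hP : Iso P) (h : SqCorner M) : SqCorner (P * M * OmegaComm.ji P) :=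
  fun Q hQ => by
    rw [conj_conj]
    exact h _ (hQ.mul hP)

variable {κ : Type} [Fintype κ] [DecidableEq κ]

/-- The unipotent parameters reaching a corner `S * G`. -/
theorem exists_param {a G S : Matrix κ κ F} {d : Matrix Unit κ F} {μ : Matrix κ Unit F} (hG : IsUnit G.det)
    (hrel : aᵀ * G + dᵀ * d + Gᵀ * a = 0) (hS : S + Sᵀ + μ * μᵀ = 0) :
    ∃ (v : Matrix κ Unit F) (K : Matrix κ κ F), K + Kᵀ + v * vᵀ = 0 ∧ a + v * d + K * G = S * G := by
  have hGi : G * G⁻¹ = 1 := mul_nonsing_inv _ hG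
  have hGt : G⁻¹ᵀ * Gᵀ = 1 := by rw [← transpose_mul, hGi, transpose_one]
  obtain ⟨η, hη⟩ : ∃ η, η = d * G⁻¹ := ⟨_, rfl⟩
  obtain ⟨b, hb⟩ : ∃ b, b = a * G⁻¹ := ⟨_, rfl⟩
  have e : b + bᵀ + ηᵀ * η = 0 := by
    have h0 : G⁻¹ᵀ * (aᵀ * G + dᵀ * d + Gᵀ * a) * G⁻¹ = 0 := by rw [hrel]; simp
    rw [← h0, hb, hη, transpose_mul, transpose_mul]
    simp only [Matrix.mul_add, Matrix.add_mul]
    have e1 : G⁻¹ᵀ * (aᵀ * G) * G⁻¹ = G⁻¹ᵀ * aᵀ := by
      rw [Matrix.mul_assoc, Matrix.mul_assoc aᵀ, hGi, Matrix.mul_one]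
    have e2 : G⁻¹ᵀ * (Gᵀ * a) * G⁻¹ = a * G⁻¹ := by rw [← Matrix.mul_assoc, hGt, Matrix.one_mul]
    rw [e1, e2]
    simp only [Matrix.mul_assoc]
    abel
  refine ⟨μ + ηᵀ, S - b - (μ + ηᵀ) * η, ?_, ?_⟩
  · have : S - b - (μ + ηᵀ) * η + (S - b - (μ + ηᵀ) * η)ᵀ + (μ + ηᵀ) * (μ + ηᵀ)ᵀ =
        (S + Sᵀ + μ * μᵀ) - (b + bᵀ + ηᵀ * η) := by
      simp only [transpose_sub, transpose_add, transpose_mul, transpose_transpose, Matrix.add_mul, Matrix.mul_add]
      abel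
    rw [this, hS, e, sub_zero]
  · rw [Matrix.sub_mul, Matrix.sub_mul, Matrix.mul_assoc _ η, hη, hb, Matrix.mul_assoc a, Matrix.mul_assoc d,
      nonsing_inv_mul _ hG, Matrix.mul_one, Matrix.mul_one]
    abel

/-- The scalar making a determinant exactly one. -/
theorem exists_scale {D : F} (hD : D ≠ 0) (hs : IsSquare D) : ∃ t : F, t ≠ 0 ∧ t ^ 2 * D = 1 := by
  obtain ⟨r, rfl⟩ := hs
  have hr : r ≠ 0 := left_ne_zero_of_mul hD
  exact ⟨r⁻¹, inv_ne_zero hr, by field_simp⟩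

/-- An invertible lower left block allows a cyclic corner of determinant one. -/
theorem exists_good_corner (h2 : (2 : F) ≠ 0) {k : ℕ} (hk : 0 < k) {M : Mat F (Fin k)} (hM : Iso M)
    (hg : IsUnit (gblk M).det) (hsq : SqCorner M) :
    ∃ P, Iso P ∧ Cyc (corner (P * M * ji P)) ∧ (corner (P * M * ji P)).det = 1 ∧
      (k = 2 → (corner (P * M * ji P)).trace ≠ 2) := by
  obtain ⟨B, hB, D, hD, hgood⟩ := exists_good h2 hk hg.ne_zero
  have hL : Iso (lev B⁻¹ : Mat F (Fin k)) := iso_lev (isUnit_nonsing_inv_det _ hB)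
  obtain ⟨hca, hcg, hcd⟩ := conj_lev hB M
  obtain ⟨M', hM'⟩ : ∃ M', M' = lev B⁻¹ * M * ji (lev B⁻¹) := ⟨_, rfl⟩
  rw [← hM'] at hca hcg hcd
  have hM'i : Iso M' := hM' ▸ iso_conj hL hM
  have hG : IsUnit (gblk M').det := by
    rw [hcg, det_mul, det_mul, det_transpose]; exact (hB.mul hg).mul hB
  have reach : ∀ t : F, t ≠ 0 → ∃ P, Iso P ∧ Hess (corner (P * M * ji P)) ∧
      (corner (P * M * ji P)).det = t ^ 2 * D ∧ (k = 2 → (corner (P * M * ji P)).trace ≠ 2) := by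
    intro t ht
    obtain ⟨S, μ, hS, hH, hdet, htr⟩ := hgood t ht
    rw [← hcg] at hH hdet htr
    obtain ⟨v, K, hK, e⟩ := exists_param hG hM'i.corner_rel hS
    refine ⟨upp v K * lev B⁻¹, (iso_upp hK).mul hL, ?_⟩
    rw [← conj_conj, ← hM', (conj_upp v K M').1, e]
    exact ⟨hH, hdet, htr⟩
  obtain ⟨P, hP, -, hd, -⟩ := reach 1 one_ne_zero
  rw [one_pow, one_mul] at hd
  obtain ⟨t, ht, ht1⟩ := exists_scale hD (hd ▸ hsq P hP (by rw [hd]; exact hD))
  obtain ⟨P, hP, hH, hd', htr⟩ := reach t ht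
  exact ⟨P, hP, cyc_of_hess hH, hd'.trans ht1, htr⟩

/-- One extra fixed line below. -/
theorem exists_good_corner_one (h2 : (2 : F) ≠ 0) {k : ℕ} (hk : 0 < k) {M : Mat F (Fin k ⊕ Fin 1)} (hM : Iso M)
    {G a₁ : Matrix (Fin k) (Fin k) F} {a₂ : Matrix (Fin 1) (Fin k) F} {d₁ : Matrix Unit (Fin k) F} {l : F}
    (hG : IsUnit G.det) (hg : gblk M = fromBlocks G 0 0 0) (ha : corner M = fromBlocks a₁ 0 a₂ (l • 1))
    (hd : dblk M = fromCols d₁ 0) (hl : l ≠ 0) (hl1 : k = 1 → l = -1) (hsq : SqCorner M) :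
    ∃ P, Iso P ∧ Cyc ((corner (P * M * ji P)).submatrix finSumFinEquiv.symm finSumFinEquiv.symm) ∧
      (corner (P * M * ji P)).det = 1 ∧
      (k = 1 → ((corner (P * M * ji P)).submatrix finSumFinEquiv.symm finSumFinEquiv.symm).trace ≠ 2) := by
  obtain ⟨B, hB, D, hD, hgood⟩ := exists_good h2 hk hG.ne_zero
  obtain ⟨Bb, hBb⟩ : ∃ Bb : Matrix (Fin k ⊕ Fin 1) (Fin k ⊕ Fin 1) F, Bb = fromBlocks B 0 0 1 := ⟨_, rfl⟩
  have h1u : IsUnit (1 : Matrix (Fin 1) (Fin 1) F).det := by rw [det_one]; exact isUnit_one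
  have hBu : IsUnit Bb.det := by rw [hBb, det_fromBlocks_zero₂₁, det_one, mul_one]; exact hB
  have hL : Iso (lev Bb⁻¹ : Mat F (Fin k ⊕ Fin 1)) := iso_lev (isUnit_nonsing_inv_det _ hBu)
  obtain ⟨hca, hcg, hcd⟩ := conj_lev hBu M
  obtain ⟨M', hM'⟩ : ∃ M', M' = lev Bb⁻¹ * M * ji (lev Bb⁻¹) := ⟨_, rfl⟩
  rw [← hM'] at hca hcg hcd
  rw [hg, hBb, fromBlocks_transpose, fromBlocks_multiply, fromBlocks_multiply] at hcg
  rw [ha, hBb, inv_fromBlocks_diag hB h1u, fromBlocks_multiply, fromBlocks_multiply] at hca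
  rw [hd, hBb, fromCols_mul_fromBlocks] at hcd
  simp only [inv_one, transpose_zero, transpose_one, Matrix.zero_mul, Matrix.mul_zero, Matrix.one_mul,
    Matrix.mul_one, add_zero, zero_add] at hcg hca hcd
  obtain ⟨G', hG'⟩ : ∃ G', G' = Bᵀ * G * B := ⟨_, rfl⟩
  have hG'u : IsUnit G'.det := by rw [hG', det_mul, det_mul, det_transpose]; exact (hB.mul hG).mul hB
  rw [← hG'] at hcg hgood
  obtain ⟨a₁', ha₁'⟩ : ∃ a₁', a₁' = B⁻¹ * a₁ * B := ⟨_, rfl⟩
  obtain ⟨a₂', ha₂'⟩ : ∃ a₂', a₂' = a₂ * B := ⟨_, rfl⟩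
  rw [← ha₁', ← ha₂'] at hca
  have hrel : a₁'ᵀ * G' + (d₁ * B)ᵀ * (d₁ * B) + G'ᵀ * a₁' = 0 := by
    have e := (hM' ▸ iso_conj hL hM : Iso M').corner_rel
    rw [hca, hcg, hcd, fromBlocks_transpose, fromBlocks_transpose, transpose_fromCols, fromRows_mul_fromCols,
      fromBlocks_multiply, fromBlocks_multiply, fromBlocks_add, fromBlocks_add, ← fromBlocks_zero, fromBlocks_inj] at e
    simpa using e.1
  have reach : ∀ t : F, t ≠ 0 → ∃ P, Iso P ∧
      Hess ((corner (P * M * ji P)).submatrix finSumFinEquiv.symm finSumFinEquiv.symm) ∧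
      (corner (P * M * ji P)).det = t ^ 2 * D * l ∧
      (k = 1 → ((corner (P * M * ji P)).submatrix finSumFinEquiv.symm finSumFinEquiv.symm).trace =
        t ^ 2 * D + l) := by
    intro t ht
    obtain ⟨S, μ, hS, hH, hdet, -⟩ := hgood t ht
    obtain ⟨v, K, hK, e⟩ := exists_param hG'u hrel hS
    obtain ⟨R, hR⟩ : ∃ R : Matrix (Fin 1) (Fin k) F, R = Matrix.of fun _ (j : Fin k) => if (j : ℕ) + 1 = k then 1 else 0 :=
      ⟨_, rfl⟩
    obtain ⟨L, hLdef⟩ : ∃ L : Matrix (Fin 1) (Fin k) F, L = (R - a₂') * G'⁻¹ := ⟨_, rfl⟩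
    have hP : Iso (upp (fromRows v 0) (fromBlocks K (-Lᵀ) L (0 : Matrix (Fin 1) (Fin 1) F))) := iso_upp (by
      rw [fromBlocks_transpose, transpose_fromRows, fromRows_mul_fromCols, fromBlocks_add, fromBlocks_add,
        ← fromBlocks_zero, fromBlocks_inj]
      simp [hK])
    refine ⟨_, hP.mul hL, ?_⟩
    have hc : corner (upp (fromRows v 0) (fromBlocks K (-Lᵀ) L 0) * lev Bb⁻¹ * M *
        ji (upp (fromRows v 0) (fromBlocks K (-Lᵀ) L 0) * lev Bb⁻¹)) = fromBlocks (S * G') 0 R (l • 1) := by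
      rw [← conj_conj, ← hM', (conj_upp _ _ _).1, hca, hcg, hcd, fromRows_mul_fromCols, fromBlocks_multiply,
        fromBlocks_add, fromBlocks_add, fromBlocks_inj]
      refine ⟨?_, ?_, ?_, ?_⟩ <;> simp
      · exact e
      · rw [hLdef, Matrix.mul_assoc, nonsing_inv_mul _ hG'u, Matrix.mul_one]; abel
    rw [hc]
    refine ⟨fun i j => ?_, ?_, fun hk1 => ?_⟩
    · obtain ⟨i, rfl⟩ := finSumFinEquiv.surjective i
      obtain ⟨j, rfl⟩ := finSumFinEquiv.surjective j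
      rcases i with i | i <;> rcases j with j | j <;>
        simp only [submatrix_apply, finSumFinEquiv_symm_apply_castAdd, finSumFinEquiv_symm_apply_natAdd, fromBlocks_apply₁₁, fromBlocks_apply₁₂,
          fromBlocks_apply₂₁, fromBlocks_apply₂₂, finSumFinEquiv_apply_left, finSumFinEquiv_apply_right,
          Fin.val_castAdd, Fin.val_natAdd]
      · exact hH i j
      · exact ⟨fun _ => rfl, fun h => by omega⟩
      · refine ⟨fun h => ?_, fun h => ?_⟩
        · rw [hR, of_apply, if_neg (by omega)]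
        · rw [hR, of_apply, if_pos (by omega)]; exact one_ne_zero
      · exact ⟨fun h => by omega, fun h => by omega⟩
    · rw [det_fromBlocks_zero₁₂, hdet]
      simp
    · subst hk1
      rw [Matrix.det_fin_one] at hdet
      simp [trace, Fin.sum_univ_two, ← hdet, finSumFinEquiv, Fin.addCases]
  obtain ⟨P, hP, -, hd', -⟩ := reach 1 one_ne_zero
  rw [one_pow, one_mul] at hd'
  obtain ⟨t, ht, ht1⟩ := exists_scale (mul_ne_zero hD hl)
    (hd' ▸ hsq P hP (by rw [hd']; exact mul_ne_zero hD hl))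
  obtain ⟨P, hP, hH, hdP, htr⟩ := reach t ht
  refine ⟨P, hP, cyc_of_hess hH, (hdP.trans (mul_assoc _ _ _)).trans ht1, fun hk1 h => ?_⟩
  rw [htr hk1, hl1 hk1] at h
  rw [hl1 hk1] at ht1
  exact h2 ((mul_eq_zero.1 (show (2 : F) * 2 = 0 by linear_combination -h - ht1)).elim id id)

end CfsgLib.OmegaComm
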