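import Cfsg.Agent.Lib.Classical.OmegaComm.Rank

/-!
# Splitting off a hyperbolic space with `±1`
-/

set_option autoImplicit false
set_option linter.unusedSectionVars false

namespace CfsgLib.OmegaComm

open Matrix CfsgLib.SUComm CfsgLib.Classical

variable {F : Type*} [Field F] {α : Type} [Fintype α] [DecidableEq α] {k r : ℕ}

/-- The shape of an isometry in adapted coordinates. -/
def Adapted (M : Mat F (Fin k ⊕ Fin r)) (l : F) : Prop :=
  ∃ (G a₁ : Matrix (Fin k) (Fin k) F) (a₂ : Matrix (Fin r) (Fin k) F) (d₁ : Matrix Unit (Fin k) F),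
    IsUnit G.det ∧ gblk M = fromBlocks G 0 0 0 ∧ corner M = fromBlocks a₁ 0 a₂ (l • 1) ∧ dblk M = fromCols d₁ 0

theorem exists_adapted (h2 : (2 : F) ≠ 0) {M : Mat F (Fin k ⊕ Fin r)} (hM : Iso M)
    (hrk : (gblk M).rank = k) {l : F} (hl : ∀ y, gblk M *ᵥ y = 0 → corner M *ᵥ y = l • y) :
    ∃ B : Matrix (Fin k ⊕ Fin r) (Fin k ⊕ Fin r) F, IsUnit B.det ∧ Adapted (lev B⁻¹ * M * ji (lev B⁻¹)) l := by
  classical
  let K := LinearMap.ker (gblk M).mulVecLin
  have hdim := (gblk M).mulVecLin.finrank_range_add_finrank_ker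
  rw [Module.finrank_pi, Fintype.card_sum, Fintype.card_fin, Fintype.card_fin] at hdim
  change (gblk M).rank + _ = _ at hdim
  have hKr : Module.finrank F K = r := by
    show Module.finrank F (LinearMap.ker (gblk M).mulVecLin) = r
    omega
  obtain ⟨C, hC⟩ := Submodule.exists_isCompl K
  have hCk : Module.finrank F C = k := by
    have := Submodule.finrank_add_eq_of_isCompl hC
    rw [Module.finrank_pi, Fintype.card_sum, Fintype.card_fin, Fintype.card_fin] at this
    omega
  let b : Module.Basis (Fin k ⊕ Fin r) F (Fin k ⊕ Fin r → F) :=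
    ((Module.finBasisOfFinrankEq F C hCk).prod (Module.finBasisOfFinrankEq F K hKr)).map
      (Submodule.prodEquivOfIsCompl C K hC.symm)
  have hbK : ∀ j : Fin r, gblk M *ᵥ b (.inr j) = 0 := fun j => by
    have : b (.inr j) = ((Module.finBasisOfFinrankEq F K hKr j : K) : Fin k ⊕ Fin r → F) := by simp [b]
    rw [this]
    exact LinearMap.mem_ker.1 (Submodule.coe_mem (p := K) _)
  obtain ⟨B, hB⟩ : ∃ B, B = (Pi.basisFun F (Fin k ⊕ Fin r)).toMatrix b := ⟨_, rfl⟩
  have hBu : IsUnit B.det := IsUnit.of_mul_eq_one _ (by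
    rw [← det_mul, hB, Module.Basis.toMatrix_mul_toMatrix_flip, det_one])
  have hcol : ∀ j, B *ᵥ Pi.single j 1 = b j := fun j => by
    funext i
    simp [hB, mulVec_single, Module.Basis.toMatrix_apply]
  refine ⟨B, hBu, ?_⟩
  obtain ⟨hca, hcg, hcd⟩ := conj_lev hBu M
  obtain ⟨M', hM'⟩ : ∃ M', M' = lev B⁻¹ * M * ji (lev B⁻¹) := ⟨_, rfl⟩
  rw [← hM'] at hca hcg hcd ⊢
  have hgj : ∀ j : Fin r, gblk M' *ᵥ Pi.single (.inr j) 1 = 0 := fun j => by
    rw [hcg, ← mulVec_mulVec, hcol, ← mulVec_mulVec, hbK, mulVec_zero]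
  have haj : ∀ j : Fin r, corner M' *ᵥ Pi.single (.inr j) 1 = l • Pi.single (.inr j) 1 := fun j => by
    rw [hca, ← mulVec_mulVec, hcol, ← mulVec_mulVec, hl _ (hbK j), mulVec_smul, ← hcol, mulVec_mulVec _ B⁻¹ B,
      nonsing_inv_mul _ hBu, one_mulVec]
  have hM'i : Iso M' := hM' ▸ iso_conj (iso_lev (isUnit_nonsing_inv_det _ hBu)) hM
  have hdj : ∀ j : Fin r, dblk M' *ᵥ Pi.single (.inr j) 1 = 0 := fun j => dblk_mulVec_ker h2 hM'i (hgj j)
  have hl0 : ∀ j : Fin r, l ≠ 0 := fun j h => by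
    have h1 := haj j
    rw [h, zero_smul] at h1
    have := congrFun (eq_zero_of_blocks hM'i h1 (hdj j) (hgj j)) (.inr j)
    simp at this
  have hrow : ∀ (i : Fin r) j, gblk M' (.inr i) j = 0 := fun i j => by
    have h1 := corner_mem_left_ker hM'i (hgj i) (hdj i)
    rw [haj, smul_vecMul] at h1
    have := congrFun ((smul_eq_zero.1 h1).resolve_left (hl0 i)) j
    simpa [single_vecMul] using this
  have hg : gblk M' = fromBlocks (gblk M').toBlocks₁₁ 0 0 0 := by
    ext (i | i) (j | j)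
    · simp [toBlocks₁₁]
    · simpa [mulVec_single] using congrFun (hgj j) (.inl i)
    · simpa using hrow i (.inl j)
    · simpa using hrow i (.inr j)
  refine ⟨(gblk M').toBlocks₁₁, (corner M').toBlocks₁₁, (corner M').toBlocks₂₁, (dblk M').toCols₁, ?_, hg, ?_, ?_⟩
  · have hr : (gblk M').rank = k := by rw [hM', rank_conj_lev hBu, hrk]
    obtain ⟨G, hG⟩ : ∃ G, G = (gblk M').toBlocks₁₁ := ⟨_, rfl⟩
    rw [← hG] at hg ⊢
    have hle : (gblk M').rank ≤ G.rank := by
      have e : gblk M' = (fromRows (1 : Matrix (Fin k) (Fin k) F) (0 : Matrix (Fin r) (Fin k) F)) * G * (fromCols (1 : Matrix (Fin k) (Fin k) F) (0 : Matrix (Fin k) (Fin r) F)) := by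
        rw [hg, fromRows_mul, fromRows_mul_fromCols]
        simp
      rw [e]
      exact (Matrix.rank_mul_le_left _ _).trans (Matrix.rank_mul_le_right _ _)
    rw [isUnit_iff_ne_zero]
    intro h0
    obtain ⟨v, hv0, hv⟩ := Matrix.exists_mulVec_eq_zero_iff.2 h0
    have h1 := G.mulVecLin.finrank_range_add_finrank_ker
    rw [Module.finrank_fin_fun] at h1
    change G.rank + _ = _ at h1
    have : 0 < Module.finrank F (LinearMap.ker G.mulVecLin) :=
      (Module.finrank_pos_iff_exists_ne_zero (M := LinearMap.ker G.mulVecLin)).2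
        ⟨⟨v, LinearMap.mem_ker.2 hv⟩, fun h => hv0 (congrArg Subtype.val h)⟩
    omega
  · ext (i | i) (j | j)
    · simp [toBlocks₁₁]
    · simpa [mulVec_single] using congrFun (haj j) (.inl i)
    · simp [toBlocks₂₁]
    · simpa [mulVec_single, Matrix.one_apply, Pi.single_apply] using congrFun (haj j) (.inr i)
  · ext u (j | j)
    · simp [toCols₁]
    · simpa [mulVec_single] using congrFun (hdj j) u

theorem mulVec_corner (M : Mat F α) (y : α → F) :
    M *ᵥ Sum.elim y 0 = Sum.elim (corner M *ᵥ y) (Sum.elim (dblk M *ᵥ y) (gblk M *ᵥ y)) := by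
  obtain ⟨a, b, c, d, e, f, g, h, i, rfl⟩ := exists_blk M
  rw [corner_blk, dblk_blk, gblk_blk]
  funext k
  rcases k with k | k | k <;> simp [mulVec, dotProduct, blk, Fintype.sum_sum_type]

theorem Iso.dot_eq {M : Mat F α} (hM : Iso M) (p w : Idx α → F) :
    (M *ᵥ p) ⬝ᵥ jm F α *ᵥ (M *ᵥ w) = p ⬝ᵥ jm F α *ᵥ w := by
  rw [← form_congr, hM]

theorem smul_single_mulVec {α' : Type} [DecidableEq α'] [Fintype α'] {M : Matrix α' α' F} {l : F} {j : α'}
    (h : M *ᵥ Pi.single j 1 = l • Pi.single j 1) (i : α') : M i j = l * (1 : Matrix α' α' F) i j := by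
  have := congrFun h i
  simpa [mulVec_single, Matrix.one_apply, Pi.single_apply] using this

theorem gblk_emb (M₀ : Mat F α) {ρ : Type} [Fintype ρ] [DecidableEq ρ] (R R' : Matrix ρ ρ F) :
    gblk (emb M₀ R R') = fromBlocks (gblk M₀) 0 0 0 ∧ corner (emb M₀ R R') = fromBlocks (corner M₀) 0 0 R ∧
      dblk (emb M₀ R R') = fromCols (dblk M₀) 0 := by
  obtain ⟨a, b, c, d, e, f, g, h, i, rfl⟩ := exists_blk M₀
  simp [emb_blk]

theorem iso_of_emb {ρ : Type} [Fintype ρ] [DecidableEq ρ] {M₀ : Mat F α} {R R' : Matrix ρ ρ F}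
    (h : Iso (emb M₀ R R')) : Iso M₀ := by
  refine iso_of_ji_mul ?_
  have e := h.ji_mul'
  rw [ji_emb, emb_mul, ← emb_one] at e
  have e' := congrArg (fun X : Mat F (α ⊕ ρ) => (X.submatrix (embIdx α ρ) (embIdx α ρ)).toBlocks₁₁) e
  have h1 : ((1 : Matrix (Idx α ⊕ (ρ ⊕ ρ)) (Idx α ⊕ (ρ ⊕ ρ)) F)).toBlocks₁₁ = 1 := by
    rw [← fromBlocks_one, toBlocks_fromBlocks₁₁]
  simpa [emb, h1] using e'

/-- The orthogonal splitting. -/
theorem exists_emb (h2 : (2 : F) ≠ 0) {M : Mat F (Fin k ⊕ Fin r)} (hM : Iso M) (hmax : IsMax M) (hr : 2 ≤ r)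
    {l : F} (had : Adapted M l) :
    ∃ (U : Mat F (Fin k ⊕ Fin r)) (M₀ : Mat F (Fin k)), Iso U ∧ l * l = 1 ∧
      U * M * ji U = emb M₀ (l • (1 : Matrix (Fin r) (Fin r) F)) (l • 1) ∧ IsUnit (gblk M₀).det := by
  classical
  obtain ⟨G, a₁, a₂, d₁, hG, hg, ha, hd⟩ := had
  have hrk : (gblk M).rank = k := by
    refine le_antisymm ?_ ?_
    · have e : gblk M = (fromRows (1 : Matrix (Fin k) (Fin k) F) (0 : Matrix (Fin r) (Fin k) F)) * G * (fromCols (1 : Matrix (Fin k) (Fin k) F) (0 : Matrix (Fin k) (Fin r) F)) := by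
        rw [hg, fromRows_mul, fromRows_mul_fromCols]; simp
      rw [e]
      exact ((Matrix.rank_mul_le_left _ _).trans (Matrix.rank_mul_le_right _ _)).trans
        ((Matrix.rank_le_card_width _).trans (by simp))
    · have e : G = (fromCols (1 : Matrix (Fin k) (Fin k) F) (0 : Matrix (Fin k) (Fin r) F)) * gblk M * (fromRows (1 : Matrix (Fin k) (Fin k) F) (0 : Matrix (Fin r) (Fin k) F)) := by
        rw [hg, fromCols_mul_fromBlocks, fromCols_mul_fromRows]; simp
      have hGr : G.rank = k := by rw [Matrix.rank_of_isUnit _ ((Matrix.isUnit_iff_isUnit_det G).2 hG), Fintype.card_fin]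
      have h' : G.rank ≤ (gblk M).rank := by
        conv_lhs => rw [e]
        exact (Matrix.rank_mul_le_left _ _).trans (Matrix.rank_mul_le_right _ _)
      omega
  -- the kernel of the lower block consists of eigenvectors
  have heig : ∀ c : Fin r → F, M *ᵥ Sum.elim (Sum.elim 0 c) 0 = l • Sum.elim (Sum.elim (0 : Fin k → F) c) 0 := by
    intro c
    rw [mulVec_corner, ha, hd, hg, fromBlocks_mulVec, fromCols_mulVec, fromBlocks_mulVec]
    funext i
    rcases i with (i | i) | i | (i | i) <;> simp [smul_mulVec]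
  have hone : ∀ x : Fin r, ∃ (p : Fin k → F) (q : Fin r → F),
      M *ᵥ Sum.elim (Sum.elim p q) (Sum.elim (fun _ => 0) (Pi.single (.inr x) 1)) =
        l • Sum.elim (Sum.elim p q) (Sum.elim (fun _ => 0) (Pi.single (.inr x) 1)) ∧ q x = 0 := by
    intro x
    obtain ⟨N, hN⟩ : ∃ N, N = ji (nb (Sum.inr x) (0 : F)) * M * nb (.inr x) 0 := ⟨_, rfl⟩
    have hnb : Iso (nb (Sum.inr x : Fin k ⊕ Fin r) (0 : F)) := iso_nb h2 _ _
    have hNi : Iso N := hN ▸ (hnb.ji.mul hM).mul hnb
    have hπg : proj F (Sum.inr x) * gblk M * proj F (Sum.inr x) = gblk M := by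
      ext i j
      rw [proj_mul_mul]
      split_ifs with h
      · rcases h with rfl | rfl
        · rw [hg]; rcases j with j | j <;> simp
        · rw [hg]; rcases i with i | i <;> simp
      · rfl
    have hπN : proj F (Sum.inr x) * gblk N * proj F (Sum.inr x) = gblk M := by
      rw [← hπg]
      ext i j
      rw [proj_mul_mul, proj_mul_mul]
      split_ifs with h
      · rfl
      · push Not at h
        rw [hN]
        exact gblk_nb_of_ne M _ 0 h.1 h.2
    have hle : (gblk N).rank ≤ (gblk M).rank := by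
      have := hmax (ji (nb (Sum.inr x) (0 : F))) hnb.ji
      rwa [ji_ji, ← hN] at this
    have hge : (gblk M).rank ≤ (gblk N).rank := by
      rw [← hπN]
      exact (Matrix.rank_mul_le_left _ _).trans (Matrix.rank_mul_le_right _ _)
    have hNr : (gblk N).rank = k := by omega
    have hNmax : IsMax N := by
      have := hmax.of_conj hnb.ji (by rw [ji_ji, ← hN, hNr, hrk])
      rwa [ji_ji, ← hN] at this
    obtain ⟨l', hl'⟩ := max_scalar h2 hNi hNmax (by rw [hNr, Fintype.card_sum, Fintype.card_fin, Fintype.card_fin]; omega)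
    -- eigenvectors of `M` from the kernel
    have hev : ∀ y, gblk N *ᵥ y = 0 →
        M *ᵥ (nb (Sum.inr x) (0 : F) *ᵥ Sum.elim y 0) = l' • (nb (Sum.inr x) (0 : F) *ᵥ Sum.elim y 0) := by
      intro y hy
      have e : N *ᵥ Sum.elim y 0 = l' • Sum.elim y 0 := by
        rw [mulVec_corner, hl' y hy, dblk_mulVec_ker h2 hNi hy, hy]
        funext i
        rcases i with i | i | i <;> simp
      rw [← mulVec_smul, ← e, hN, mulVec_mulVec, mulVec_mulVec, ← Matrix.mul_assoc, ← Matrix.mul_assoc, hnb.mul_ji,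
        Matrix.one_mul]
    have hnbv : ∀ y : Fin k ⊕ Fin r → F, nb (Sum.inr x) (0 : F) *ᵥ Sum.elim y 0 =
        Sum.elim (fun i => if i = .inr x then 0 else y i)
          (Sum.elim (fun _ => 0) (Pi.single (.inr x) (y (.inr x)))) := by
      intro y
      have hy : Sum.elim y 0 = ∑ i, y i • (Pi.single (Sum.inl i) 1 : Idx (Fin k ⊕ Fin r) → F) := by
        funext i
        rw [Finset.sum_apply]
        rcases i with i | i | i <;> simp [Pi.single_apply]
      rw [hy, Matrix.mulVec_sum]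
      simp only [mulVec_smul, nb_col]
      funext i
      rw [Finset.sum_apply]
      rcases i with i | i | i
      · rw [Finset.sum_eq_single i]
        · by_cases h : i = .inr x <;> simp [h, nbVec]
        · intro j _ hj
          by_cases h : j = .inr x <;> simp [h, nbVec, Pi.single_apply, Ne.symm hj]
        · simp
      · refine Finset.sum_eq_zero fun j _ => ?_
        by_cases h : j = .inr x <;> simp [h, nbVec]
      · rw [Finset.sum_eq_single (Sum.inr x)]
        · simp [nbVec, Pi.single_apply]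
        · intro j _ hj; simp [hj]
        · simp
    obtain ⟨x', hx'⟩ : ∃ x' : Fin r, x' ≠ x := by
      haveI : Nontrivial (Fin r) := Fin.nontrivial_iff_two_le.2 hr
      exact exists_ne x
    have hx'k : gblk N *ᵥ Pi.single (Sum.inr x') 1 = 0 := by
      funext i
      rw [mulVec_single_one]
      show gblk N i (Sum.inr x') = 0
      rcases eq_or_ne i (Sum.inr x) with rfl | hi
      · rw [hN, gblk_nb_row M _ 0 (by simpa using hx'), ha]
        simp [Ne.symm hx']
      · rw [hN, gblk_nb_of_ne M _ 0 hi (by simpa using hx'), hg]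
        rcases i with i | i <;> simp
    have hll : l' = l := by
      have e1 := hev _ hx'k
      have e2 := heig (Pi.single x' 1)
      rw [hnbv] at e1
      have ev : Sum.elim (fun i => if i = Sum.inr x then 0 else (Pi.single (Sum.inr x') 1 : Fin k ⊕ Fin r → F) i)
          (Sum.elim (fun _ : Unit => 0) (Pi.single (Sum.inr x : Fin k ⊕ Fin r) ((Pi.single (Sum.inr x') 1 : Fin k ⊕ Fin r → F) (Sum.inr x)))) =
          Sum.elim (Sum.elim (0 : Fin k → F) (Pi.single x' 1)) 0 := by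
        funext i
        rcases i with (i | i) | i | i <;> simp [Pi.single_apply, Ne.symm hx']
        rcases eq_or_ne i x with rfl | hi <;> simp [*, Ne.symm hx']
      rw [ev, e2] at e1
      simpa using (congrFun e1 (.inl (.inr x'))).symm
    obtain ⟨y, hy, hyx⟩ : ∃ y, gblk N *ᵥ y = 0 ∧ y (Sum.inr x) = 1 := by
      by_contra hcon
      push Not at hcon
      have hyx : ∀ y, gblk N *ᵥ y = 0 → y (Sum.inr x) = 0 := fun y hy => by
        by_contra h
        exact hcon ((y (Sum.inr x))⁻¹ • y) (by rw [mulVec_smul, hy, smul_zero]) (by simp [h])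
      let φ : LinearMap.ker (gblk N).mulVecLin →ₗ[F] ({z : Fin r // z ≠ x} → F) :=
        LinearMap.pi fun z => (LinearMap.proj (Sum.inr z.1)).comp (Submodule.subtype _)
      have hφ : Function.Injective φ := (injective_iff_map_eq_zero φ).2 fun ⟨y, hy⟩ h => by
        have hy' : gblk N *ᵥ y = 0 := LinearMap.mem_ker.1 hy
        have h1 : gblk M *ᵥ y = 0 := by
          have hpy : proj F (Sum.inr x) *ᵥ y = y := by
            funext i
            rcases eq_or_ne i (Sum.inr x) with rfl | hi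
            · simp [proj, mulVec_diagonal, hyx y hy']
            · simp [proj, mulVec_diagonal, hi]
          rw [← hπN, ← mulVec_mulVec, hpy, ← mulVec_mulVec, hy', mulVec_zero]
        refine Subtype.ext (funext fun i => ?_)
        rcases i with i | i
        · have h2' : G *ᵥ (y ∘ Sum.inl) = 0 := by
            rw [hg, fromBlocks_mulVec] at h1
            funext j
            simpa using congrFun h1 (.inl j)
          have h3 : y ∘ Sum.inl = 0 := by
            have := congrArg (fun v => G⁻¹ *ᵥ v) h2'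
            simpa [mulVec_mulVec, nonsing_inv_mul _ hG] using this
          exact congrFun h3 i
        · rcases eq_or_ne i x with rfl | hi
          · exact hyx y hy'
          · exact congrFun h ⟨i, hi⟩
      have h1 := LinearMap.finrank_le_finrank_of_injective hφ
      have h2' := (gblk N).mulVecLin.finrank_range_add_finrank_ker
      rw [Module.finrank_pi, Fintype.card_sum, Fintype.card_fin, Fintype.card_fin] at h2'
      change (gblk N).rank + _ = _ at h2'
      rw [Module.finrank_pi, Fintype.card_subtype_compl, Fintype.card_fin] at h1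
      simp at h1
      omega
    refine ⟨fun i => y (.inl i), fun z => if z = x then 0 else y (.inr z), ?_, by simp⟩
    have e := hev y hy
    rw [hll, hnbv, hyx] at e
    have hv : (fun i => if i = (Sum.inr x : Fin k ⊕ Fin r) then (0 : F) else y i) =
        Sum.elim (fun i => y (.inl i)) fun z => if z = x then 0 else y (.inr z) := by
      funext i
      rcases i with i | i <;> simp
    rw [← hv]
    exact e
  choose p q heq hq using hone
  have hll : l * l = 1 := by
    have x : Fin r := ⟨0, by omega⟩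
    have e1 := hM.dot_eq (Sum.elim (Sum.elim (p x) (q x)) (Sum.elim (fun _ => 0) (Pi.single (.inr x) 1)))
      (Sum.elim (Sum.elim (0 : Fin k → F) (Pi.single x 1)) 0)
    rw [heq x, heig, smul_dotProduct, mulVec_smul, dotProduct_smul, smul_smul] at e1
    have e2 : Sum.elim (Sum.elim (p x) (q x)) (Sum.elim (fun _ => 0) (Pi.single (.inr x) 1)) ⬝ᵥ
        jm F (Fin k ⊕ Fin r) *ᵥ Sum.elim (Sum.elim (0 : Fin k → F) (Pi.single x 1)) 0 = 1 := by
      rw [dot_jm]
      simp [Fintype.sum_sum_type, Pi.single_apply]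
    rw [e2, smul_eq_mul, mul_one] at e1
    exact e1
  obtain ⟨Q, hQ⟩ : ∃ Q : Matrix (Fin r) (Fin r) F, Q = (2 : F)⁻¹ • (Matrix.of (fun z x => q x z) -
      (Matrix.of fun z x => q x z)ᵀ) := ⟨_, rfl⟩
  obtain ⟨Pm, hPm⟩ : ∃ Pm : Matrix (Fin k) (Fin r) F, Pm = Matrix.of fun i x => p x i := ⟨_, rfl⟩
  obtain ⟨K, hK⟩ : ∃ K : Matrix (Fin k ⊕ Fin r) (Fin k ⊕ Fin r) F, K = fromBlocks 0 Pm (-Pmᵀ) Q := ⟨_, rfl⟩
  have hKt : K + Kᵀ = 0 := by
    rw [hK, fromBlocks_transpose, fromBlocks_add, ← fromBlocks_zero, fromBlocks_inj]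
    refine ⟨by simp, by simp, by simp, ?_⟩
    rw [hQ, transpose_smul, ← smul_add, transpose_sub, transpose_transpose, sub_add_sub_cancel, sub_self, smul_zero]
  obtain ⟨U₀, hU₀⟩ : ∃ U₀ : Mat F (Fin k ⊕ Fin r), U₀ = upp 0 K := ⟨_, rfl⟩
  have hU₀i : Iso U₀ := hU₀ ▸ iso_upp (by rw [Matrix.zero_mul, add_zero]; exact hKt)
  obtain ⟨M₂, hM₂⟩ : ∃ M₂, M₂ = ji U₀ * M * U₀ := ⟨_, rfl⟩
  have hM₂i : Iso M₂ := hM₂ ▸ (hU₀i.ji.mul hM).mul hU₀i
  have hback : ∀ {w : Idx (Fin k ⊕ Fin r) → F}, M *ᵥ (U₀ *ᵥ w) = l • (U₀ *ᵥ w) → M₂ *ᵥ w = l • w := fun {w} h => by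
    rw [hM₂, ← mulVec_mulVec, ← mulVec_mulVec, h, mulVec_smul, mulVec_mulVec, hU₀i.ji_mul', one_mulVec]
  have hU₁ : ∀ x : Fin r, U₀ *ᵥ Pi.single (Sum.inl (Sum.inr x)) 1 = Sum.elim (Sum.elim (0 : Fin k → F) (Pi.single x 1)) 0 := by
    intro x
    funext i
    rcases i with (i | i) | i | i <;> simp [hU₀, upp, blk, Pi.single_apply, Matrix.one_apply, eq_comm]
  have hU₂ : ∀ x : Fin r, U₀ *ᵥ Pi.single (Sum.inr (Sum.inr (Sum.inr x))) 1 =
      Sum.elim (Sum.elim (p x) (q x)) (Sum.elim (fun _ => 0) (Pi.single (.inr x) 1)) +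
        Sum.elim (Sum.elim (0 : Fin k → F) (fun z => Q z x - q x z)) 0 := by
    intro x
    funext i
    rcases i with (i | i) | i | i <;>
      simp [hU₀, upp, blk, hK, hPm, Pi.single_apply, Matrix.one_apply, eq_comm]
  have hc1 : ∀ x : Fin r, M₂ *ᵥ Pi.single (Sum.inl (Sum.inr x)) 1 = l • Pi.single (Sum.inl (Sum.inr x)) 1 :=
    fun x => hback (by rw [hU₁, heig])
  have hc2 : ∀ x : Fin r, M₂ *ᵥ Pi.single (Sum.inr (Sum.inr (Sum.inr x))) 1 =
      l • Pi.single (Sum.inr (Sum.inr (Sum.inr x))) 1 :=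
    fun x => hback (by rw [hU₂, mulVec_add, heq, heig, smul_add])
  have hrow : ∀ j, M₂ *ᵥ Pi.single j 1 = l • Pi.single j 1 →
      (Pi.single j 1 ᵥ* jm F (Fin k ⊕ Fin r)) ᵥ* M₂ = l • (Pi.single j 1 ᵥ* jm F (Fin k ⊕ Fin r)) := fun j hj => by
    have h : (M₂ *ᵥ Pi.single j 1) ᵥ* (jm F (Fin k ⊕ Fin r) * M₂) = Pi.single j 1 ᵥ* jm F (Fin k ⊕ Fin r) := by
      rw [← vecMul_transpose, vecMul_vecMul, ← Matrix.mul_assoc, hM₂i]
    rw [hj, smul_vecMul, ← vecMul_vecMul] at h
    conv_rhs => rw [← h]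
    rw [smul_smul, hll, one_smul]
  have hj1 : ∀ x : Fin r, (Pi.single (Sum.inl (Sum.inr x)) 1 : Idx (Fin k ⊕ Fin r) → F) ᵥ* jm F (Fin k ⊕ Fin r) =
      Pi.single (Sum.inr (Sum.inr (Sum.inr x))) 1 := fun x => by
    funext i
    rcases i with i | i | i <;> simp [jm_eq, blk, Pi.single_apply, Matrix.one_apply, eq_comm]
  have hj2 : ∀ x : Fin r, (Pi.single (Sum.inr (Sum.inr (Sum.inr x))) 1 : Idx (Fin k ⊕ Fin r) → F) ᵥ*
      jm F (Fin k ⊕ Fin r) = Pi.single (Sum.inl (Sum.inr x)) 1 := fun x => by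
    funext i
    rcases i with i | i | i <;> simp [jm_eq, blk, Pi.single_apply, Matrix.one_apply, eq_comm]
  have r1 : ∀ (x : Fin r) i, M₂ (Sum.inr (Sum.inr (Sum.inr x))) i =
      l * (1 : Mat F (Fin k ⊕ Fin r)) (Sum.inr (Sum.inr (Sum.inr x))) i := fun x i => by
    have := congrFun (hrow _ (hc1 x)) i
    rw [hj1] at this
    simpa [Matrix.one_apply, Pi.single_apply, eq_comm] using this
  have r2 : ∀ (x : Fin r) i, M₂ (Sum.inl (Sum.inr x)) i =
      l * (1 : Mat F (Fin k ⊕ Fin r)) (Sum.inl (Sum.inr x)) i := fun x i => by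
    have := congrFun (hrow _ (hc2 x)) i
    rw [hj2] at this
    simpa [Matrix.one_apply, Pi.single_apply, eq_comm] using this
  have c1 := fun x : Fin r => smul_single_mulVec (hc1 x)
  have c2 := fun x : Fin r => smul_single_mulVec (hc2 x)
  obtain ⟨M₀, hM₀⟩ : ∃ M₀ : Mat F (Fin k),
      M₀ = (M₂.submatrix (embIdx (Fin k) (Fin r)) (embIdx (Fin k) (Fin r))).toBlocks₁₁ := ⟨_, rfl⟩
  have hM₂e : M₂ = emb M₀ (l • (1 : Matrix (Fin r) (Fin r) F)) (l • 1) := by
    ext ((i | i) | i | (i | i)) ((j | j) | j | (j | j))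
    all_goals first
      | (simp [hM₀, emb, embIdx, toBlocks₁₁]; done)
      | (rw [r1]; simp [emb, embIdx, Matrix.one_apply]; done)
      | (rw [r2]; simp [emb, embIdx, Matrix.one_apply]; done)
      | (rw [c1]; simp [emb, embIdx, Matrix.one_apply]; done)
      | (rw [c2]; simp [emb, embIdx, Matrix.one_apply]; done)
  have hjiU : ji U₀ = upp 0 Kᵀ := by rw [hU₀]; simp [upp, ji_blk]
  refine ⟨ji U₀, M₀, hU₀i.ji, hll, by rw [ji_ji, ← hM₂, hM₂e], ?_⟩
  have e := (conj_upp 0 Kᵀ M).2.1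
  rw [← hjiU, ji_ji, ← hM₂, hM₂e, (gblk_emb M₀ _ _).1, hg, fromBlocks_inj] at e
  rw [e.1]; exact hG

/-- `-1` on everything is not of maximal rank. -/
theorem not_isMax_neg (h2 : (2 : F) ≠ 0) (hr : 0 < r) {M₀ : Mat F (Fin 0)} (hd : M₀.det = 1)
    (hmax : IsMax (emb M₀ ((-1 : F) • (1 : Matrix (Fin r) (Fin r) F)) ((-1 : F) • 1))) : False := by
  obtain ⟨M, hM⟩ : ∃ M, M = emb M₀ ((-1 : F) • (1 : Matrix (Fin r) (Fin r) F)) ((-1 : F) • 1) := ⟨_, rfl⟩
  rw [← hM] at hmax
  have h0 : gblk M = 0 := by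
    rw [hM, (gblk_emb M₀ _ _).1, Subsingleton.elim (gblk M₀) 0, fromBlocks_zero]
  have hM₀ : M₀ (.inr (.inl ())) (.inr (.inl ())) = 1 := by
    haveI : Subsingleton (Idx (Fin 0)) := ⟨fun a b => by
      rcases a with a | a | a
      · exact a.elim0
      · rcases b with b | b | b
        · exact b.elim0
        · rfl
        · exact b.elim0
      · exact a.elim0⟩
    rw [← Matrix.det_eq_elem_of_subsingleton M₀, hd]
  let x : Fin 0 ⊕ Fin r := .inr ⟨0, hr⟩
  have := hmax (ji (nb x (1 : F))) (iso_nb h2 x 1).ji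
  rw [ji_ji, h0, Matrix.rank_zero, Nat.le_zero] at this
  have hz : gblk (ji (nb x (1 : F)) * M * nb x 1) x x = 0 := by
    have h' : gblk (ji (nb x (1 : F)) * M * nb x 1) = 0 := by
      by_contra hne
      refine hne (Matrix.ext_of_mulVec_single fun i => ?_)
      rw [Matrix.rank, Submodule.finrank_eq_zero] at this
      rw [zero_mulVec, ← Submodule.mem_bot F, ← this]
      exact ⟨_, rfl⟩
    rw [h']; rfl
  rw [gblk_nb, if_pos rfl, dot_jm] at hz
  have e1 : ∀ i, (M *ᵥ nbVec x (1 : F)) i = if i = (.inr (.inl ()) : Idx (Fin 0 ⊕ Fin r)) then 1 else -nbVec x 1 i := by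
    intro i
    rw [hM]
    rcases i with (i | i) | u | (i | i) <;>
      first
        | exact i.elim0
        | (simp [emb, embIdx, mulVec, dotProduct, Fintype.sum_sum_type, Matrix.one_apply, hM₀, nbVec, x,
            Pi.single_apply]; done)
        | (simp [emb, embIdx, mulVec, dotProduct, Fintype.sum_sum_type, Matrix.one_apply, hM₀, nbVec, x,
            Pi.single_apply]; split_ifs <;> simp; done)
  rw [Finset.sum_eq_single x (fun i _ hi => by simp [nbVec, hi]) (by simp),
    Finset.sum_eq_single x (fun i _ hi => by simp [nbVec, hi]) (by simp), e1, e1, e1] at hz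
  simp [nbVec] at hz
  field_simp at hz
  exact h2 ((mul_eq_zero.1 (show (2 : F) * 2 = 0 by linear_combination hz)).elim id id)

end CfsgLib.OmegaComm
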