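import Cfsg.Agent.Lib.Classical.OmegaComm.Space

/-!
# Orthogonal sums with hyperbolic spaces, and commutators
-/

set_option autoImplicit false
set_option linter.unusedSectionVars false

namespace CfsgLib.OmegaComm

open Matrix CfsgLib.SUComm CfsgLib.Classical

variable {F : Type*} [Field F] {α ρ γ : Type} [Fintype α] [DecidableEq α] [Fintype ρ] [DecidableEq ρ]
  [Fintype γ] [DecidableEq γ]

theorem iso_of_ji_mul {M : Mat F α} (h : ji M * M = 1) : Iso M := by
  rw [ji] at h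
  have := congrArg (fun X => jm F α * X) h
  simp only [← Matrix.mul_assoc, jm_mul_jm, Matrix.one_mul, Matrix.mul_one] at this
  exact this

/-- The index map of an orthogonal sum with a hyperbolic space. -/
def embIdx (α ρ : Type) : Idx α ⊕ (ρ ⊕ ρ) ≃ Idx (α ⊕ ρ) where
  toFun := Sum.elim (Sum.elim (fun i => .inl (.inl i)) (Sum.elim (fun u => .inr (.inl u))
    fun i => .inr (.inr (.inl i)))) (Sum.elim (fun r => .inl (.inr r)) fun r => .inr (.inr (.inr r)))
  invFun := Sum.elim (Sum.elim (fun i => .inl (.inl i)) fun r => .inr (.inl r)) (Sum.elim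
    (fun u => .inl (.inr (.inl u))) (Sum.elim (fun i => .inl (.inr (.inr i))) fun r => .inr (.inr r)))
  left_inv x := by rcases x with (i | u | i) | r | r <;> rfl
  right_inv x := by rcases x with (i | r) | u | (i | r) <;> rfl

/-- The orthogonal sum. -/
def emb (M : Mat F α) (R R' : Matrix ρ ρ F) : Mat F (α ⊕ ρ) :=
  (fromBlocks M 0 0 (fromBlocks R 0 0 R')).submatrix (embIdx α ρ).symm (embIdx α ρ).symm

theorem emb_mul (M N : Mat F α) (R R' S S' : Matrix ρ ρ F) :
    emb M R R' * emb N S S' = emb (M * N) (R * S) (R' * S') := by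
  rw [emb, emb, submatrix_mul_equiv, fromBlocks_multiply, emb]
  simp [fromBlocks_multiply]

@[simp] theorem emb_one : emb (1 : Mat F α) (1 : Matrix ρ ρ F) 1 = 1 := by
  rw [emb, fromBlocks_one, fromBlocks_one, submatrix_one_equiv]

theorem emb_blk (a : Matrix α α F) (b : Matrix α Unit F) (c : Matrix α α F) (d : Matrix Unit α F)
    (e : Matrix Unit Unit F) (f : Matrix Unit α F) (g : Matrix α α F) (h : Matrix α Unit F) (i : Matrix α α F)
    (R R' : Matrix ρ ρ F) :
    emb (blk a b c d e f g h i) R R' = blk (fromBlocks a 0 0 R) (fromRows b 0) (fromBlocks c 0 0 0)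
      (fromCols d 0) e (fromCols f 0) (fromBlocks g 0 0 0) (fromRows h 0) (fromBlocks i 0 0 R') := by
  ext ((x | x) | x | (x | x)) ((y | y) | y | (y | y)) <;> simp [emb, embIdx, blk]

theorem ji_emb (M : Mat F α) (R R' : Matrix ρ ρ F) : ji (emb M R R') = emb (ji M) R'ᵀ Rᵀ := by
  obtain ⟨a, b, c, d, e, f, g, h, i, rfl⟩ := exists_blk M
  rw [emb_blk, ji_blk, ji_blk, emb_blk, blk_inj]
  refine ⟨?_, ?_, ?_, ?_, ?_, ?_, ?_, ?_, ?_⟩ <;>
    first
      | (rw [fromBlocks_transpose]; simp; done)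
      | (rw [transpose_fromRows]; simp; done)
      | (rw [transpose_fromCols]; simp; done)
      | rfl

theorem iso_emb {M : Mat F α} (hM : Iso M) {R R' : Matrix ρ ρ F} (hR : Rᵀ * R' = 1) : Iso (emb M R R') := by
  refine iso_of_ji_mul ?_
  rw [ji_emb, emb_mul, hM.ji_mul', hR]
  have : R'ᵀ * R = 1 := by rw [← transpose_transpose R, ← transpose_mul, hR, transpose_one]
  rw [this, emb_one]

theorem inv_fromBlocks_diag {A : Matrix α α F} {R : Matrix ρ ρ F} (hA : IsUnit A.det) (hR : IsUnit R.det) :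
    (fromBlocks A 0 0 R)⁻¹ = fromBlocks A⁻¹ 0 0 R⁻¹ :=
  inv_eq_right_inv (by
    rw [fromBlocks_multiply]
    simp [mul_nonsing_inv _ hA, mul_nonsing_inv _ hR])

theorem emb_lev {A : Matrix α α F} {R : Matrix ρ ρ F} (hA : IsUnit A.det) (hR : IsUnit R.det) :
    emb (lev A) R (R⁻¹)ᵀ = lev (fromBlocks A 0 0 R) := by
  rw [lev, emb_blk, lev, inv_fromBlocks_diag hA hR, fromBlocks_transpose]
  simp

theorem det_emb (M : Mat F α) (R R' : Matrix ρ ρ F) : (emb M R R').det = M.det * (R.det * R'.det) := by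
  rw [emb, det_submatrix_equiv_self, det_fromBlocks_zero₂₁, det_fromBlocks_zero₂₁]

/-- The index map of a change of labels. -/
def idxCongr (e : α ≃ γ) : Idx α ≃ Idx γ := e.sumCongr ((Equiv.refl Unit).sumCongr e)

/-- Change of labels. -/
def ridx (e : α ≃ γ) (M : Mat F α) : Mat F γ := M.submatrix (idxCongr e).symm (idxCongr e).symm

theorem ridx_blk (e' : α ≃ γ) (a : Matrix α α F) (b : Matrix α Unit F) (c : Matrix α α F) (d : Matrix Unit α F)
    (e : Matrix Unit Unit F) (f : Matrix Unit α F) (g : Matrix α α F) (h : Matrix α Unit F) (i : Matrix α α F) :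
    ridx e' (blk a b c d e f g h i) = blk (a.submatrix e'.symm e'.symm) (b.submatrix e'.symm id)
      (c.submatrix e'.symm e'.symm) (d.submatrix id e'.symm) e (f.submatrix id e'.symm)
      (g.submatrix e'.symm e'.symm) (h.submatrix e'.symm id) (i.submatrix e'.symm e'.symm) := by
  ext (x | x | x) (y | y | y) <;> simp [ridx, idxCongr, blk]

theorem ridx_mul (e : α ≃ γ) (M N : Mat F α) : ridx e (M * N) = ridx e M * ridx e N :=
  (submatrix_mul_equiv _ _ _ _ _).symm

@[simp] theorem ridx_one (e : α ≃ γ) : ridx e (1 : Mat F α) = 1 := submatrix_one_equiv _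

theorem ridx_symm (e : α ≃ γ) (M : Mat F γ) : ridx e (ridx e.symm M) = M := by
  ext (x | x | x) (y | y | y) <;> simp [ridx, idxCongr]

theorem ji_ridx (e : α ≃ γ) (M : Mat F α) : ji (ridx e M) = ridx e (ji M) := by
  obtain ⟨a, b, c, d, e', f, g, h, i, rfl⟩ := exists_blk M
  rw [ridx_blk, ji_blk, ji_blk, ridx_blk]
  simp [transpose_submatrix]

theorem iso_ridx (e : α ≃ γ) {M : Mat F α} (hM : Iso M) : Iso (ridx e M) :=
  iso_of_ji_mul (by rw [ji_ridx, ← ridx_mul, hM.ji_mul', ridx_one])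

theorem commutator_le_comap {G H : Type*} [Group G] [Group H] (f : G →* H) {g : G} (hg : g ∈ commutator G) :
    f g ∈ commutator H := by
  have h := Subgroup.mem_map_of_mem f hg
  rw [commutator_def, Subgroup.map_commutator] at h
  exact Subgroup.commutator_mono le_top le_top h

/-- A map respecting products and isometries respects the commutator subgroup. -/
theorem om_map (h2 : (2 : F) ≠ 0) (f : Mat F α → Mat F γ) (hmul : ∀ M N, f (M * N) = f M * f N)
    (hiso : ∀ M, Iso M → Iso (f M)) {M : Mat F α} : Om M → Om (f M) := by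
  rintro ⟨g, hg, rfl⟩
  choose φ hφ using fun g : qAut (qG F α) => exists_toMat (hiso _ (iso_toMat h2 g))
  let Φ : qAut (qG F α) →* qAut (qG F γ) := MonoidHom.mk' φ fun g h => toMat_injective (by
    rw [map_mul, hφ, hφ, hφ, map_mul, hmul])
  exact ⟨Φ g, commutator_le_comap Φ hg, hφ g⟩

theorem Om.emb_one (h2 : (2 : F) ≠ 0) {M : Mat F α} (hM : Om M) :
    Om (emb M (1 : Matrix ρ ρ F) 1) :=
  om_map h2 (fun M => emb M 1 1) (fun M N => by rw [emb_mul, Matrix.one_mul])
    (fun M hM => iso_emb hM (by simp)) hM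

theorem Om.ridx (h2 : (2 : F) ≠ 0) (e : α ≃ γ) {M : Mat F α} (hM : Om M) : Om (ridx e M) :=
  om_map h2 _ (ridx_mul e) (fun _ => iso_ridx e) hM

/-- `M` is a commutator in the commutator subgroup. -/
def IsC (M : Mat F α) : Prop := ∃ A X, Om A ∧ Om X ∧ M * (X * A) = A * X

theorem IsC.conj (h2 : (2 : F) ≠ 0) {M P : Mat F α} (hP : Iso P) : IsC M → IsC (P * M * ji P) := by
  rintro ⟨A, X, hA, hX, e⟩
  refine ⟨P * A * OmegaComm.ji P, P * X * OmegaComm.ji P, hA.conj h2 hP, hX.conj h2 hP, ?_⟩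
  have h : ∀ Y, OmegaComm.ji P * (P * Y) = Y := fun Y => by rw [← Matrix.mul_assoc, hP.ji_mul', Matrix.one_mul]
  calc P * M * OmegaComm.ji P * (P * X * OmegaComm.ji P * (P * A * OmegaComm.ji P))
      = P * (M * (X * A)) * OmegaComm.ji P := by simp only [Matrix.mul_assoc, h]
    _ = _ := by rw [e]; simp only [Matrix.mul_assoc, h]

theorem IsC.of_conj (h2 : (2 : F) ≠ 0) {M P : Mat F α} (hP : Iso P) (h : IsC (ji P * M * P)) : IsC M := by
  have := h.conj h2 hP
  rwa [← Matrix.mul_assoc, ← Matrix.mul_assoc, hP.mul_ji, Matrix.one_mul, Matrix.mul_assoc, hP.mul_ji,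
    Matrix.mul_one] at this

theorem IsC.ridx (h2 : (2 : F) ≠ 0) (e : α ≃ γ) {M : Mat F α} : IsC M → IsC (ridx e M) := by
  rintro ⟨A, X, hA, hX, e'⟩
  exact ⟨_, _, hA.ridx h2 e, hX.ridx h2 e, by rw [← ridx_mul, ← ridx_mul, e', ridx_mul]⟩

/-- An element of the commutator subgroup times a Levi element. -/
def AL (M : Mat F α) : Prop := ∃ N A, Om N ∧ IsUnit A.det ∧ M = N * lev A

theorem Om.al {M : Mat F α} (h : Om M) : AL M := ⟨M, 1, h, by simp, by simp⟩

theorem al_lev {A : Matrix α α F} (hA : IsUnit A.det) : AL (lev A) := ⟨1, A, om_one, hA, by simp⟩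

theorem AL.mul (h2 : (2 : F) ≠ 0) {M M' : Mat F α} : AL M → AL M' → AL (M * M') := by
  rintro ⟨N, A, hN, hA, rfl⟩ ⟨N', A', hN', hA', rfl⟩
  refine ⟨N * (lev A * N' * OmegaComm.ji (lev A)), A * A', hN.mul (hN'.conj h2 (iso_lev hA)),
    by rw [det_mul]; exact hA.mul hA', ?_⟩
  rw [← lev_mul]
  calc N * lev A * (N' * lev A') = N * (lev A * N' * (OmegaComm.ji (lev A) * lev A)) * lev A' := by
        rw [(iso_lev hA).ji_mul', Matrix.mul_one]; simp only [Matrix.mul_assoc]
    _ = _ := by simp only [Matrix.mul_assoc]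

variable [Fintype F]

/-- The square class to be compensated in a hyperbolic space. -/
theorem AL.exists_class (h2 : (2 : F) ≠ 0) {M : Mat F α} : AL M → ∃ c : F, c ≠ 0 ∧
    ∀ R : Matrix ρ ρ F, IsUnit R.det → IsSquare (c * R.det) → Om (emb M R (R⁻¹)ᵀ) := by
  rintro ⟨N, A, hN, hA, rfl⟩
  refine ⟨A.det, hA.ne_zero, fun R hR hs => ?_⟩
  have hd : (fromBlocks A 0 0 R).det = A.det * R.det := det_fromBlocks_zero₂₁ _ _ _
  have : emb (N * lev A) R (R⁻¹)ᵀ = emb N 1 1 * emb (lev A) R (R⁻¹)ᵀ := by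
    rw [emb_mul, Matrix.one_mul, Matrix.one_mul]
  rw [this, emb_lev hA hR]
  exact (hN.emb_one h2).mul ((om_lev_iff h2 (by rw [hd]; exact hA.mul hR)).2 (by rwa [hd]))

/-- The tail supplies any two classes. -/
def Tail (F : Type*) [Field F] (ρ : Type) [Fintype ρ] [DecidableEq ρ] (ε : F) : Prop :=
  ε * ε = 1 ∧ ∀ c c' : F, c ≠ 0 → c' ≠ 0 → ∃ R R' : Matrix ρ ρ F, IsUnit R.det ∧ IsUnit R'.det ∧
    IsSquare (c * R.det) ∧ IsSquare (c' * R'.det) ∧ ε • (R' * R) = R * R'

theorem isC_emb (h2 : (2 : F) ≠ 0) {ε : F} (hT : Tail F ρ ε) {M A X : Mat F α} (hA : AL A) (hX : AL X)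
    (e : M * (X * A) = A * X) : IsC (emb M (ε • (1 : Matrix ρ ρ F)) (ε • 1)) := by
  obtain ⟨c, hc, hcA⟩ := hA.exists_class (ρ := ρ) h2
  obtain ⟨c', hc', hcX⟩ := hX.exists_class (ρ := ρ) h2
  obtain ⟨hε, hT⟩ := hT
  obtain ⟨R, R', hR, hR', hs, hs', hRR⟩ := hT c c' hc hc'
  refine ⟨_, _, hcA R hR hs, hcX R' hR' hs', ?_⟩
  rw [emb_mul, emb_mul, emb_mul, e, Matrix.smul_mul, Matrix.one_mul, Matrix.smul_mul, Matrix.one_mul, hRR]
  congr 1
  have hinv : (ε • (R' * R))⁻¹ = ε • (R⁻¹ * R'⁻¹) := inv_eq_right_inv (by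
    rw [Matrix.smul_mul, Matrix.mul_smul, smul_smul, hε, one_smul]
    calc R' * R * (R⁻¹ * R'⁻¹) = R' * (R * R⁻¹) * R'⁻¹ := by simp only [Matrix.mul_assoc]
      _ = 1 := by rw [mul_nonsing_inv _ hR, Matrix.mul_one, mul_nonsing_inv _ hR'])
  rw [← transpose_mul, ← transpose_mul, ← transpose_smul]
  congr 1
  rw [← hinv, hRR, Matrix.mul_inv_rev]

end CfsgLib.OmegaComm
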