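import Cfsg.Agent.Lib.Classical.OmegaComm.Decomp

/-!
# Every element of `Ω_{2n+1}(q)`, `q` odd, is a commutator
-/

set_option autoImplicit false
set_option linter.unusedSectionVars false

namespace CfsgLib.OmegaComm

open Matrix CfsgLib.SUComm CfsgLib.Classical Polynomial

variable {F : Type*} [Field F] {α γ ρ : Type} [Fintype α] [DecidableEq α] [Fintype γ] [DecidableEq γ] [Fintype ρ]
  [DecidableEq ρ]

theorem inv_submatrix (X : Matrix α α F) (e : γ ≃ α) : (X.submatrix e e)⁻¹ = X⁻¹.submatrix e e :=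
  inv_submatrix_equiv X e e

theorem Cell.submatrix {a : Matrix α α F} (e : γ ≃ α) : Cell a → Cell (a.submatrix e e) := by
  rintro ⟨T, X, Y, hT, hX, hY, h⟩
  refine ⟨T.submatrix e e, X.submatrix e e, Y.submatrix e e, hT.submatrix e, by rwa [det_submatrix_equiv_self],
    by rwa [det_submatrix_equiv_self], ?_⟩
  simp only [inv_submatrix, submatrix_mul_equiv, h]

theorem CellFree.submatrix {a : Matrix α α F} (e : γ ≃ α) : CellFree a → CellFree (a.submatrix e e) := by
  rintro ⟨T, X, Y, hT, hX, hY, h, hd, hZ⟩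
  refine ⟨T.submatrix e e, X.submatrix e e, Y.submatrix e e, hT.submatrix e, by rwa [det_submatrix_equiv_self],
    by rwa [det_submatrix_equiv_self], ?_, by rwa [det_submatrix_equiv_self], fun c hc => ?_⟩
  · simp only [inv_submatrix, submatrix_mul_equiv, h]
  · obtain ⟨Z, hZT, hZd⟩ := hZ c hc
    exact ⟨Z.submatrix e e, by simp only [submatrix_mul_equiv, hZT], by rwa [det_submatrix_equiv_self]⟩

theorem cell_of_cyc [Fintype F] (h2 : (2 : F) ≠ 0) {k : ℕ} (hk : 0 < k) {a : Matrix (Fin k) (Fin k) F} (hc : Cyc a)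
    (hd : a.det = 1) (ht : k = 2 → a.trace ≠ 2) : Cell a := by
  match k, hk, a, hc, hd, ht with
  | 1, _, a, _, hd, _ => exact cell_one h2 hd
  | 2, _, a, hc, hd, ht => exact cell_two h2 hc hd (ht rfl)
  | m + 3, _, a, hc, hd, _ => exact (cellFree_of_cyc h2 (by omega) hc hd).cell

theorem cellFree_cyc' [Fintype F] (h2 : (2 : F) ≠ 0) {k : ℕ} (hk : 3 ≤ k) {a : Matrix (Fin k) (Fin k) F}
    (hc : Cyc a) (hd : a.det = 1) : CellFree a := by
  obtain ⟨m, rfl⟩ : ∃ m, k = m + 1 := ⟨k - 1, by omega⟩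
  exact cellFree_of_cyc h2 (by omega) hc hd

theorem tail_one [Nonempty ρ] : Tail F ρ 1 := by
  refine ⟨one_mul 1, fun c c' hc hc' => ?_⟩
  obtain ⟨x⟩ := ‹Nonempty ρ›
  have hdet : ∀ c : F, (diagonal (Function.update (1 : ρ → F) x c)).det = c := fun c => by
    rw [det_diagonal, Finset.prod_update_of_mem (Finset.mem_univ x)]
    simp
  refine ⟨diagonal (Function.update 1 x c), diagonal (Function.update 1 x c'), ?_, ?_, ?_, ?_, ?_⟩
  · rw [hdet, isUnit_iff_ne_zero]; exact hc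
  · rw [hdet, isUnit_iff_ne_zero]; exact hc'
  · rw [hdet]; exact ⟨c, rfl⟩
  · rw [hdet]; exact ⟨c', rfl⟩
  · rw [one_smul, diagonal_mul_diagonal, diagonal_mul_diagonal]
    simp [mul_comm]

theorem exists_repr [Fintype F] (h2 : (2 : F) ≠ 0) {u : F} (hu : u ≠ 0) (c : F) :
    ∃ x y : F, -(x * x) + u * (y * y) = c := by
  obtain ⟨x, y, h⟩ := FiniteField.exists_root_sum_quadratic (f := -(X : F[X]) ^ 2 - C c) (g := C u * X ^ 2)
    (by rw [degree_sub_eq_left_of_degree_lt] <;> rw [degree_neg, degree_X_pow]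
        · rfl
        · exact lt_of_le_of_lt degree_C_le (by norm_num))
    (degree_C_mul_X_pow 2 hu) (Nat.odd_iff.1 (odd_card_of_two_ne_zero h2))
  simp at h
  exact ⟨x, y, by linear_combination h⟩

theorem tail_neg [Fintype F] (h2 : (2 : F) ≠ 0) {r : ℕ} (hr : Even r) (hr0 : 0 < r) : Tail F (Fin r) (-1) := by
  refine ⟨by ring, fun c c' hc hc' => ?_⟩
  obtain ⟨p, rfl⟩ : ∃ p, r = 2 * p := by obtain ⟨p, hp⟩ := hr; exact ⟨p, by omega⟩
  have o₀ : Fin p := ⟨0, by omega⟩
  let u : Fin p → F := fun o => if o = o₀ then -c else -1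
  have hu : ∀ o, u o ≠ 0 := fun o => by
    simp only [u]; split_ifs
    · exact neg_ne_zero.2 hc
    · exact neg_ne_zero.2 one_ne_zero
  choose x y hxy using fun o => exists_repr h2 (hu o) (if o = o₀ then c' else 1)
  let A : Fin p → Matrix (Fin 2) (Fin 2) F := fun o => !![0, u o; 1, 0]
  let B : Fin p → Matrix (Fin 2) (Fin 2) F := fun o => !![x o, -(u o * y o); y o, -x o]
  have hAd : (blockDiagonal A).det = c := by
    rw [det_blockDiagonal, Finset.prod_eq_single o₀]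
    · simp [A, det_fin_two, u]
    · intro o _ ho
      simp [A, det_fin_two, u, ho]
    · simp
  have hBd : (blockDiagonal B).det = c' := by
    rw [det_blockDiagonal, Finset.prod_eq_single o₀]
    · have := hxy o₀
      rw [if_pos rfl] at this
      simp [B, det_fin_two]
      linear_combination this
    · intro o _ ho
      have := hxy o
      rw [if_neg ho] at this
      simp [B, det_fin_two]
      linear_combination this
    · simp
  refine ⟨(blockDiagonal A).submatrix finProdFinEquiv.symm finProdFinEquiv.symm,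
    (blockDiagonal B).submatrix finProdFinEquiv.symm finProdFinEquiv.symm, ?_, ?_, ?_, ?_, ?_⟩
  · rw [det_submatrix_equiv_self, hAd, isUnit_iff_ne_zero]; exact hc
  · rw [det_submatrix_equiv_self, hBd, isUnit_iff_ne_zero]; exact hc'
  · rw [det_submatrix_equiv_self, hAd]; exact ⟨c, rfl⟩
  · rw [det_submatrix_equiv_self, hBd]; exact ⟨c', rfl⟩
  · rw [submatrix_mul_equiv, submatrix_mul_equiv, ← blockDiagonal_mul, ← blockDiagonal_mul]
    rw [show (fun o => A o * B o) = (-1 : F) • fun o => B o * A o from funext fun o => by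
      ext i j
      fin_cases i <;> fin_cases j <;> simp [A, B, Matrix.mul_apply, mul_comm], blockDiagonal_smul]
    rfl

theorem ridx_emb {ρ₁ ρ₂ : Type} [Fintype ρ₁] [DecidableEq ρ₁] [Fintype ρ₂] [DecidableEq ρ₂] (σ : ρ ≃ ρ₁ ⊕ ρ₂)
    (M : Mat F α) (l : F) :
    ridx (((Equiv.refl α).sumCongr σ).trans (Equiv.sumAssoc α ρ₁ ρ₂).symm)
        (emb M (l • (1 : Matrix ρ ρ F)) (l • 1)) =
      emb (emb M (l • (1 : Matrix ρ₁ ρ₁ F)) (l • 1)) (l • (1 : Matrix ρ₂ ρ₂ F)) (l • 1) := by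
  ext (((i | i) | i) | i | ((i | i) | i)) (((j | j) | j) | j | ((j | j) | j)) <;>
    simp [ridx, idxCongr, emb, embIdx, Matrix.one_apply]

theorem ridx_corner (e : α ≃ γ) (M : Mat F α) :
    corner (ridx e M) = (corner M).submatrix e.symm e.symm ∧ gblk (ridx e M) = (gblk M).submatrix e.symm e.symm := by
  obtain ⟨a, b, c, d, e', f, g, h, i, rfl⟩ := exists_blk M
  simp [ridx_blk]

theorem emb_conj {M P : Mat F α} (ε : F) :
    emb P (1 : Matrix ρ ρ F) 1 * emb M (ε • (1 : Matrix ρ ρ F)) (ε • 1) * ji (emb P (1 : Matrix ρ ρ F) 1) =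
      emb (P * M * ji P) (ε • 1) (ε • 1) := by
  rw [ji_emb, transpose_one, emb_mul, emb_mul]
  simp

theorem sqCorner_emb {M : Mat F α} {ε : F} (hr : ε ^ Fintype.card ρ = 1)
    (h : SqCorner (emb M (ε • (1 : Matrix ρ ρ F)) (ε • 1))) : SqCorner M := by
  intro P hP hne
  have e := h (emb P 1 1) (iso_emb hP (by simp))
  rw [emb_conj, (gblk_emb _ _ _).2.1, det_fromBlocks_zero₂₁, det_smul, det_one, mul_one, hr, mul_one] at e
  exact e hne

variable [Fintype F]

theorem isC_emb_conj (h2 : (2 : F) ≠ 0) {ε : F} (hT : Tail F ρ ε) {M P : Mat F α} (hM : Iso M) (hd : M.det = 1)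
    (hP : Iso P) (hc : Cell (corner (P * M * ji P))) : IsC (emb M (ε • (1 : Matrix ρ ρ F)) (ε • 1)) := by
  have hdet : (P * M * ji P).det = 1 := by
    rw [det_mul, det_mul, hd, mul_one, ← det_mul, hP.mul_ji, det_one]
  obtain ⟨A, X, hA, hX, e⟩ := Cell.exists_al h2 (iso_conj hP hM) hdet hc
  have h := isC_emb h2 hT hA hX e
  rw [← emb_conj] at h
  refine IsC.of_conj h2 (iso_emb hP (by simp) : Iso (emb P (1 : Matrix ρ ρ F) 1)).ji ?_
  rwa [ji_ji]

theorem isC_free (h2 : (2 : F) ≠ 0) {M P : Mat F α} (hM : Om M) (hP : Iso P)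
    (hc : CellFree (corner (P * M * ji P))) : IsC M := by
  refine IsC.of_conj h2 hP.ji ?_
  rw [ji_ji]
  exact CellFree.isC h2 ((hM.conj h2 hP).iso h2) ((hM.conj h2 hP).det h2) hc

/-- The case of a kernel of dimension at least two. -/
theorem isC_split (h2 : (2 : F) ≠ 0) {k r : ℕ} {M : Mat F (Fin k ⊕ Fin r)} (hM : Om M) (hmax : IsMax M)
    (hr : 2 ≤ r) {l : F} (had : Adapted M l) : IsC M := by
  obtain ⟨U, M₀, hU, hll, e, hG⟩ := exists_emb h2 (hM.iso h2) hmax hr had
  obtain ⟨G, a₁, a₂, d₁, hG', hg', -, -⟩ := had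
  obtain ⟨E, hE⟩ : ∃ E, E = emb M₀ (l • (1 : Matrix (Fin r) (Fin r) F)) (l • 1) := ⟨_, rfl⟩
  rw [← hE] at e
  refine IsC.of_conj h2 hU.ji ?_
  rw [ji_ji, e]
  have hEo : Om E := e ▸ hM.conj h2 hU
  have hM₀i : Iso M₀ := iso_of_emb (hE ▸ hEo.iso h2)
  have hlr : l ^ r * l ^ r = 1 := by rw [← mul_pow, hll, one_pow]
  have hM₀d : M₀.det = 1 := by
    have := hE ▸ hEo.det h2
    rw [det_emb, det_smul, det_one, mul_one, Fintype.card_fin, hlr, mul_one] at this
    exact this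
  rcases Nat.eq_zero_or_pos k with rfl | hk
  · rcases mul_self_eq_one_iff.1 hll with rfl | rfl
    · have : M₀ = 1 := by
        haveI : Subsingleton (Idx (Fin 0)) := ⟨fun a b => by
          rcases a with a | a | a
          · exact a.elim0
          · rcases b with b | b | b
            · exact b.elim0
            · rfl
            · exact b.elim0
          · exact a.elim0⟩
        ext i j
        obtain rfl := Subsingleton.elim i j
        rw [Matrix.one_apply_eq, ← Matrix.det_eq_elem_of_subsingleton M₀, hM₀d]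
      rw [hE, this, one_smul, emb_one]
      exact ⟨1, 1, om_one, om_one, by simp⟩
    · refine (not_isMax_neg (r := r) h2 (by omega) hM₀d ?_).elim
      rw [← hE]
      have hr0 : (gblk (U * M * ji U)).rank = (gblk M).rank := by
        rw [e, hE, (gblk_emb M₀ _ _).1, hg', Subsingleton.elim (gblk M₀) G]
      exact e ▸ hmax.of_conj hU hr0
  have hsqE : SqCorner E := hEo.sqCorner h2
  by_cases hcase : l = 1 ∨ Even r
  · have hlr1 : l ^ Fintype.card (Fin r) = 1 := by
      rw [Fintype.card_fin]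
      rcases hcase with rfl | ⟨p, hp⟩
      · exact one_pow r
      · rw [hp, pow_add, ← mul_pow, hll, one_pow]
    obtain ⟨P, hP, hcy, hd, htr⟩ := exists_good_corner h2 hk hM₀i hG (sqCorner_emb hlr1 (hE ▸ hsqE))
    have hT : Tail F (Fin r) l := by
      rcases mul_self_eq_one_iff.1 hll with rfl | rfl
      · haveI : Nonempty (Fin r) := ⟨⟨0, by omega⟩⟩
        exact tail_one
      · refine tail_neg h2 (hcase.resolve_left fun h => ?_) (by omega)
        exact h2 (by linear_combination -h)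
    rw [hE]
    exact isC_emb_conj h2 hT hM₀i hM₀d hP (cell_of_cyc h2 hk hcy hd htr)
  · push Not at hcase
    have hl : l = -1 := (mul_self_eq_one_iff.1 hll).resolve_left hcase.1
    obtain ⟨s, rfl⟩ : ∃ s, r = 1 + s := ⟨r - 1, by omega⟩
    have hs : Even s := by
      rcases Nat.even_or_odd s with h | ⟨t, ht⟩
      · exact h
      · exact absurd ⟨t + 1, by omega⟩ hcase.2
    obtain ⟨σ, hσ⟩ : ∃ σ : Fin k ⊕ Fin (1 + s) ≃ (Fin k ⊕ Fin 1) ⊕ Fin s,
        σ = ((Equiv.refl _).sumCongr finSumFinEquiv.symm).trans (Equiv.sumAssoc _ _ _).symm := ⟨_, rfl⟩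
    obtain ⟨M₁, hM₁⟩ : ∃ M₁, M₁ = emb M₀ (l • (1 : Matrix (Fin 1) (Fin 1) F)) (l • 1) := ⟨_, rfl⟩
    have eE : ridx σ E = emb M₁ (l • (1 : Matrix (Fin s) (Fin s) F)) (l • 1) := by
      rw [hσ, hE, hM₁, ridx_emb]
    have hls : l ^ Fintype.card (Fin s) = 1 := by rw [Fintype.card_fin, hl, hs.neg_one_pow]
    have hE' : Om (ridx σ E) := hEo.ridx h2 σ
    have hM₁i : Iso M₁ := hM₁ ▸ iso_emb hM₀i (by simp [hll, smul_smul])
    have hM₁d : M₁.det = 1 := by
      rw [hM₁, det_emb, hM₀d, det_smul, det_one, mul_one, Fintype.card_fin, pow_one, hll, mul_one]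
    have hsq₁ : SqCorner M₁ := sqCorner_emb hls (eE ▸ hE'.sqCorner h2)
    obtain ⟨hb1, hb2, hb3⟩ := gblk_emb M₀ (l • (1 : Matrix (Fin 1) (Fin 1) F)) (l • 1)
    rw [← hM₁] at hb1 hb2 hb3
    obtain ⟨P, hP, hcy, hd, htr⟩ := exists_good_corner_one h2 hk hM₁i hG hb1 hb2 hb3
      (left_ne_zero_of_mul_eq_one hll) (fun _ => hl) hsq₁
    have hcell := (cell_of_cyc h2 (Nat.succ_pos k) hcy (by rw [det_submatrix_equiv_self, hd])
      (fun h => htr (by omega))).submatrix finSumFinEquiv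
    rw [submatrix_submatrix, Equiv.symm_comp_self, submatrix_id_id] at hcell
    have hC : IsC (ridx σ E) := eE ▸ isC_emb_conj h2 (hl ▸ tail_neg h2 hs (by omega)) hM₁i hM₁d hP hcell
    have := hC.ridx h2 σ.symm
    rwa [show ridx σ.symm (ridx σ E) = E by conv_lhs => rw [show ridx σ = ridx σ.symm.symm by simp]; rw [ridx_symm]]
      at this

/-- Every element of the commutator subgroup is a commutator there. -/
theorem isC_of_om (h2 : (2 : F) ≠ 0) {n : ℕ} (hn : 3 ≤ n) {M : Mat F (Fin n)} (hM : Om M) : IsC M := by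
  obtain ⟨P, hP, hmax⟩ := exists_isMax (hM.iso h2)
  refine IsC.of_conj h2 hP.ji ?_
  rw [ji_ji]
  obtain ⟨M', hM'⟩ : ∃ M', M' = P * M * ji P := ⟨_, rfl⟩
  rw [← hM'] at hmax ⊢
  have hM'o : Om M' := hM' ▸ hM.conj h2 hP
  obtain ⟨k, hk⟩ : ∃ k, k = (gblk M').rank := ⟨_, rfl⟩
  have hkn : k ≤ n := by
    rw [hk]; exact (Matrix.rank_le_card_width _).trans (by simp)
  rcases Nat.eq_or_lt_of_le hkn with rfl | hlt
  · have hg : IsUnit (gblk M').det := by
      rw [isUnit_iff_ne_zero]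
      intro h0
      obtain ⟨v, hv0, hv⟩ := Matrix.exists_mulVec_eq_zero_iff.2 h0
      have h1 := (gblk M').mulVecLin.finrank_range_add_finrank_ker
      rw [Module.finrank_fin_fun] at h1
      change (gblk M').rank + _ = _ at h1
      have : 0 < Module.finrank F (LinearMap.ker (gblk M').mulVecLin) :=
        (Module.finrank_pos_iff_exists_ne_zero (M := LinearMap.ker (gblk M').mulVecLin)).2
          ⟨⟨v, LinearMap.mem_ker.2 hv⟩, fun h => hv0 (congrArg Subtype.val h)⟩
      omega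
    obtain ⟨Q, hQ, hcy, hd, -⟩ := exists_good_corner h2 (by omega) (hM'o.iso h2) hg (hM'o.sqCorner h2)
    exact isC_free h2 hM'o hQ (cellFree_cyc' h2 hn hcy hd)
  obtain ⟨r, rfl⟩ : ∃ r, n = k + r := ⟨n - k, by omega⟩
  obtain ⟨M₁, hM₁⟩ : ∃ M₁, M₁ = ridx finSumFinEquiv.symm M' := ⟨_, rfl⟩
  suffices h : IsC M₁ by
    have := h.ridx h2 finSumFinEquiv
    rw [hM₁, ridx_symm] at this
    exact this
  have hM₁o : Om M₁ := hM₁ ▸ hM'o.ridx h2 _
  have hmax₁ : IsMax M₁ := hM₁ ▸ hmax.ridx _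
  have hr₁ : (gblk M₁).rank = k := by rw [hM₁, (ridx_corner _ _).2, rank_submatrix]; exact hk.symm
  have hcard : Fintype.card (Fin k ⊕ Fin r) = k + r := by simp
  obtain ⟨l, hl⟩ : ∃ l : F, ∀ y, gblk M₁ *ᵥ y = 0 → corner M₁ *ᵥ y = l • y := by
    rcases Nat.lt_or_ge r 2 with hr | hr
    · exact max_eigen h2 (hM₁o.iso h2) hmax₁ (by rw [hr₁, hcard]; omega)
    · exact max_scalar h2 (hM₁o.iso h2) hmax₁ (by rw [hr₁, hcard]; omega)
  obtain ⟨B, hB, had⟩ := exists_adapted h2 (hM₁o.iso h2) hr₁ hl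
  have hL : Iso (lev B⁻¹ : Mat F (Fin k ⊕ Fin r)) := iso_lev (isUnit_nonsing_inv_det _ hB)
  obtain ⟨M₂, hM₂⟩ : ∃ M₂, M₂ = lev B⁻¹ * M₁ * ji (lev B⁻¹) := ⟨_, rfl⟩
  rw [← hM₂] at had
  refine IsC.of_conj h2 hL.ji ?_
  rw [ji_ji, ← hM₂]
  have hM₂o : Om M₂ := hM₂ ▸ hM₁o.conj h2 hL
  have hmax₂ : IsMax M₂ := hM₂ ▸ hmax₁.of_conj hL (rank_conj_lev hB M₁)
  rcases Nat.lt_or_ge r 2 with hr | hr
  · obtain rfl : r = 1 := by omega
    obtain ⟨G, a₁, a₂, d₁, hG, hg, ha, hd⟩ := had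
    have hl0 : l ≠ 0 := by
      rintro rfl
      have hy := eq_zero_of_blocks (hM₂o.iso h2) (y := Pi.single (Sum.inr 0) 1)
        (by rw [ha]; funext i; rcases i with i | i <;> simp)
        (by rw [hd]; funext i; simp)
        (by rw [hg]; funext i; rcases i with i | i <;> simp)
      simpa using congrFun hy (Sum.inr 0)
    obtain ⟨Q, hQ, hcy, hdQ, -⟩ := exists_good_corner_one h2 (by omega) (hM₂o.iso h2) hG hg ha hd hl0
      (fun h => by omega) (hM₂o.sqCorner h2)
    have hcell := (cellFree_cyc' h2 hn hcy (by rw [det_submatrix_equiv_self, hdQ])).submatrix finSumFinEquiv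
    rw [submatrix_submatrix, Equiv.symm_comp_self, submatrix_id_id] at hcell
    exact isC_free h2 hM₂o hQ hcell
  · exact isC_split h2 hM₂o hmax₂ hr had

/-- The bridge to a matrix group of isometries. -/
theorem exists_commutator_of_equiv (h2 : (2 : F) ≠ 0) {n : ℕ} (hn : 3 ≤ n) {ι : Type} [Fintype ι] [DecidableEq ι]
    (Q : QuadraticForm F (ι → F)) (E : (ι → F) ≃ₗ[F] (Idx (Fin n) → F)) (hE : ∀ v, qG F (Fin n) (E v) = Q v)
    (f : (ι → F) → F) (hf : ⇑Q = f) (g : Cfsg.Omega F f) : ∃ a b : Cfsg.Omega F f, g = a * b * a⁻¹ * b⁻¹ := by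
  subst hf
  let φ : Cfsg.isometryGroup F ⇑Q ≃* qAut (qG F (Fin n)) := (isoEquiv Q).trans (qAutCongr E hE)
  have hg : φ g.1 ∈ commutator (qAut (qG F (Fin n))) := commutator_le_comap φ.toMonoidHom g.2
  obtain ⟨A, X, ⟨a, ha, ea⟩, ⟨x, hx, ex⟩, e⟩ := isC_of_om h2 hn (M := toMat (φ g.1)) ⟨_, hg, rfl⟩
  rw [← ea, ← ex, ← map_mul, ← map_mul, ← map_mul] at e
  refine ⟨⟨φ.symm a, commutator_le_comap φ.symm.toMonoidHom ha⟩, ⟨φ.symm x, commutator_le_comap φ.symm.toMonoidHom hx⟩,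
    Subtype.ext (φ.injective ?_)⟩
  have e' := toMat_injective e
  simp only [Subgroup.coe_mul, Subgroup.coe_inv, map_mul, map_inv, MulEquiv.apply_symm_apply]
  calc φ g.1 = φ g.1 * (x * a) * (a⁻¹ * x⁻¹) := by group
    _ = _ := by rw [e']; group

/-- The odd orthogonal form in the hyperbolic frame. -/
theorem exists_odd_commutator (h2 : (2 : F) ≠ 0) {n : ℕ} (hn : 3 ≤ n)
    (g : Cfsg.Omega F (Cfsg.quadFormOdd n F)) :
    ∃ a b : Cfsg.Omega F (Cfsg.quadFormOdd n F), g = a * b * a⁻¹ * b⁻¹ := by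
  let E : (OddI n → F) ≃ₗ[F] (Idx (Fin n) → F) :=
    { toFun := fun w => Sum.elim (fun i => w (.inr (.inl i))) (Sum.elim (fun u => w (.inl u)) fun i => w (.inr (.inr i)) / 2)
      invFun := fun v => Sum.elim (fun u => v (.inr (.inl u))) (Sum.elim (fun i => v (.inl i)) fun i => 2 * v (.inr (.inr i)))
      map_add' := fun p q => funext fun i => by rcases i with i | i | i <;> simp [add_div]
      map_smul' := fun c p => funext fun i => by rcases i with i | i | i <;> simp [mul_div_assoc]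
      left_inv := fun p => funext fun i => by rcases i with i | i | i <;> simp [mul_div_cancel₀, h2]
      right_inv := fun p => funext fun i => by rcases i with i | i | i <;> simp [h2] }
  refine exists_commutator_of_equiv h2 hn (qOdd n F) E (fun v => ?_) _ (coe_qOdd n F) g
  rw [qG_expand, coe_qOdd, Cfsg.quadFormOdd]
  simp only [E, LinearEquiv.coe_mk, LinearMap.coe_mk, AddHom.coe_mk, Sum.elim_inl, Sum.elim_inr]
  rw [← sub_eq_zero]
  have : ∀ i : Fin n, v (.inr (.inl i)) * v (.inr (.inr i)) =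
      v (.inr (.inl i)) * (v (.inr (.inr i)) / 2) + v (.inr (.inr i)) / 2 * v (.inr (.inl i)) :=
    fun i => by field_simp; ring
  rw [Finset.sum_congr rfl fun i _ => this i, Finset.sum_add_distrib]
  ring

end CfsgLib.OmegaComm
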