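import Cfsg.Agent.Lib.Classical.OmegaComm.Corner

/-!
# The rank of the lower left block

If the rank of the lower left block is maximal in the conjugacy class and deficient by at least one, the corner
is scalar on the kernel; if deficient by at least two, the isometry is an orthogonal sum with `±1` on a
hyperbolic space.
-/

set_option autoImplicit false
set_option linter.unusedSectionVars false

namespace CfsgLib.OmegaComm

open Matrix CfsgLib.SUComm CfsgLib.Classical

variable {F : Type*} [Field F] {α γ : Type} [Fintype α] [DecidableEq α] [Fintype γ] [DecidableEq γ]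

/-- The rank is maximal among the conjugates. -/
def IsMax (M : Mat F α) : Prop := ∀ P, Iso P → (gblk (P * M * ji P)).rank ≤ (gblk M).rank

theorem gblk_apply (M : Mat F α) (i l : α) : gblk M i l = M (.inr (.inr i)) (.inl l) := rfl

theorem dblk_apply (M : Mat F α) (u : Unit) (l : α) : dblk M u l = M (.inr (.inl u)) (.inl l) := rfl

theorem corner_apply (M : Mat F α) (i l : α) : corner M i l = M (.inl i) (.inl l) := rfl

theorem ji_ji_conj (P M : Mat F α) : ji P * M * ji (ji P) = ji P * M * P := by rw [ji_ji]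

/-- Some conjugate has maximal rank. -/
theorem exists_isMax {M : Mat F α} (hM : Iso M) :
    ∃ P, Iso P ∧ IsMax (P * M * ji P) := by
  classical
  let p : ℕ → Prop := fun k => ∃ P, Iso P ∧ (gblk (P * M * ji P)).rank = k
  have hb : ∀ {k}, p k → k ≤ Fintype.card α := fun {k} ⟨P, _, hk⟩ => hk ▸ Matrix.rank_le_card_width _
  have h0 : p (gblk M).rank := ⟨1, iso_one, by simp⟩
  obtain ⟨P, hP, e⟩ := Nat.findGreatest_spec (P := p) (hb h0) h0
  refine ⟨P, hP, fun Q hQ => ?_⟩
  rw [e, conj_conj]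
  have : p (gblk (Q * P * M * ji (Q * P))).rank := ⟨Q * P, hQ.mul hP, rfl⟩
  exact Nat.le_findGreatest (hb this) this

theorem IsMax.of_conj {M P : Mat F α} (hP : Iso P) (h : IsMax M)
    (hr : (gblk (P * M * ji P)).rank = (gblk M).rank) : IsMax (P * M * ji P) := fun Q hQ => by
  rw [conj_conj, hr]
  exact h _ (hQ.mul hP)

theorem IsMax.ridx (e : α ≃ γ) {M : Mat F α} (h : IsMax M) : IsMax (ridx e M) := fun P hP => by
  have hg : ∀ N : Mat F α, gblk (OmegaComm.ridx e N) = (gblk N).submatrix e.symm e.symm := fun N => by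
    obtain ⟨a, b, c, d, e', f, g, h', i, rfl⟩ := exists_blk N
    rw [ridx_blk, gblk_blk, gblk_blk]
  rw [← ridx_symm e P, ji_ridx, ← ridx_mul, ← ridx_mul, hg, hg, rank_submatrix, rank_submatrix]
  exact h _ (iso_ridx e.symm hP)

/-! ### Neighbours -/

/-- The vector replacing the basis vector `x`. -/
def nbVec (x : α) (t : F) : Idx α → F :=
  Sum.elim (Pi.single x (-(t * t / 2))) (Sum.elim (fun _ => t) (Pi.single x 1))

/-- The exchange of the two vectors of the pair `x`. -/
def flip1 (F : Type*) [Field F] (x : α) : Mat F α :=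
  (1 : Mat F α).submatrix id (Equiv.swap (Sum.inl x) (Sum.inr (Sum.inr x)))

/-- The isometry moving to a neighbour. -/
def nb (x : α) (t : F) : Mat F α :=
  upp (Matrix.of fun i (_ : Unit) => if i = x then -t else 0) (Matrix.single x x (-(t * t / 2))) * flip1 F x

theorem iso_flip1 (x : α) : Iso (flip1 F x) := by
  refine Matrix.ext fun i j => ?_
  rw [flip1, transpose_submatrix, transpose_one, submatrix_mul_equiv' (jm F α) x]
  rcases i with i | i | i <;> rcases j with j | j | j <;>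
    simp [jm_eq, blk, Equiv.swap_apply_def, Matrix.one_apply] <;> (repeat' split_ifs) <;>
    simp_all [eq_comm, Matrix.one_apply]
where
  submatrix_mul_equiv' (A : Mat F α) (x : α) :
      (1 : Mat F α).submatrix (Equiv.swap (Sum.inl x) (Sum.inr (Sum.inr x))) id * A *
          (1 : Mat F α).submatrix id (Equiv.swap (Sum.inl x) (Sum.inr (Sum.inr x))) =
        A.submatrix (Equiv.swap (Sum.inl x) (Sum.inr (Sum.inr x))) (Equiv.swap (Sum.inl x) (Sum.inr (Sum.inr x))) := by
    ext i j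
    simp [Matrix.mul_apply, Matrix.one_apply]

theorem iso_nb (h2 : (2 : F) ≠ 0) (x : α) (t : F) : Iso (nb x t) := by
  refine (iso_upp ?_).mul (iso_flip1 x)
  ext i j
  rcases eq_or_ne i x with rfl | hi <;> rcases eq_or_ne j i with rfl | hj <;>
    simp [Matrix.mul_apply, Matrix.single_apply, *] <;> (try field_simp) <;> (try ring)
  all_goals split_ifs <;> simp_all

/-- The columns spanning the neighbour. -/
theorem nb_col (x : α) (t : F) (l : α) :
    nb x t *ᵥ Pi.single (.inl l) 1 = if l = x then nbVec x t else Pi.single (.inl l) 1 := by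
  rw [nb, ← mulVec_mulVec]
  have : flip1 F x *ᵥ Pi.single (.inl l) 1 =
      if l = x then Pi.single (.inr (.inr x)) 1 else Pi.single (.inl l) 1 := by
    funext i
    split_ifs with h
    · subst h
      simp [flip1, Matrix.one_apply, Pi.single_apply]
    · simp [flip1, Matrix.one_apply, Pi.single_apply, Equiv.swap_apply_def, h]
  rw [this]
  split_ifs with h
  · funext i
    rcases i with i | i | i <;> simp [nbVec, upp, blk, Matrix.single_apply, Pi.single_apply, Matrix.one_apply, eq_comm]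
  · funext i
    rcases i with i | i | i <;> simp [upp, blk, Pi.single_apply, Matrix.one_apply]

theorem gblk_conj_apply (M P : Mat F α) (i l : α) :
    gblk (ji P * M * P) i l = (P *ᵥ Pi.single (.inl i) 1) ⬝ᵥ jm F α *ᵥ (M *ᵥ (P *ᵥ Pi.single (.inl l) 1)) := by
  have e : (P *ᵥ Pi.single (.inl i) 1) ⬝ᵥ jm F α *ᵥ (M *ᵥ (P *ᵥ Pi.single (.inl l) 1)) =
      (Pi.single (.inl i) 1) ⬝ᵥ (Pᵀ * (jm F α * M) * P) *ᵥ Pi.single (.inl l) 1 := by
    rw [form_congr, mulVec_mulVec (M := jm F α)]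
  have h : jm F α * (ji P * M * P) = Pᵀ * (jm F α * M) * P := by
    rw [ji]
    simp only [← Matrix.mul_assoc, jm_mul_jm, Matrix.one_mul]
  rw [e, ← h, gblk_apply, jm_eq]
  obtain ⟨a, b, c, d, e', f, g, h', i', he⟩ := exists_blk (ji P * M * P)
  rw [he, blk_mul]
  simp [blk]

theorem dot_jm (p : Idx α → F) (w : Idx α → F) :
    p ⬝ᵥ jm F α *ᵥ w = (∑ i, p (.inl i) * w (.inr (.inr i))) + p (.inr (.inl ())) * w (.inr (.inl ())) +
      ∑ i, p (.inr (.inr i)) * w (.inl i) := by
  simp [dotProduct, mulVec, Fintype.sum_sum_type, jm_eq, blk, Matrix.one_apply, add_assoc]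

theorem gblk_nb (M : Mat F α) (x : α) (t : F) (i l : α) :
    gblk (ji (nb x t) * M * nb x t) i l =
      (if i = x then nbVec x t else Pi.single (.inl i) 1) ⬝ᵥ jm F α *ᵥ
        (M *ᵥ (if l = x then nbVec x t else Pi.single (.inl l) 1)) := by
  rw [gblk_conj_apply, nb_col, nb_col]

theorem gblk_nb_of_ne (M : Mat F α) (x : α) (t : F) {i l : α} (hi : i ≠ x) (hl : l ≠ x) :
    gblk (ji (nb x t) * M * nb x t) i l = gblk M i l := by
  rw [gblk_nb, if_neg hi, if_neg hl, dot_jm, gblk_apply]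
  simp [Pi.single_apply]

theorem gblk_nb_row (M : Mat F α) (x : α) (t : F) {l : α} (hl : l ≠ x) :
    gblk (ji (nb x t) * M * nb x t) x l = -(t * t / 2) * gblk M x l + t * dblk M () l + corner M x l := by
  rw [gblk_nb, if_pos rfl, if_neg hl, dot_jm, gblk_apply, dblk_apply, corner_apply]
  simp [nbVec, Pi.single_apply]

theorem dblk_mulVec_ker (h2 : (2 : F) ≠ 0) {M : Mat F α} (hM : Iso M) {y : α → F} (hy : gblk M *ᵥ y = 0) :
    dblk M *ᵥ y = 0 := by
  have e : y ⬝ᵥ ((corner M)ᵀ * gblk M + (dblk M)ᵀ * dblk M + (gblk M)ᵀ * corner M) *ᵥ y = 0 := by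
    rw [hM.corner_rel, zero_mulVec, dotProduct_zero]
  rw [add_mulVec, add_mulVec, dotProduct_add, dotProduct_add, ← mulVec_mulVec, hy, mulVec_zero, dotProduct_zero,
    zero_add, ← mulVec_mulVec, dotProduct_mulVec, vecMul_transpose, ← mulVec_mulVec, dotProduct_mulVec y (gblk M)ᵀ,
    vecMul_transpose, hy, zero_dotProduct, add_zero] at e
  funext u
  simpa [dotProduct] using e

theorem corner_mem_left_ker {M : Mat F α} (hM : Iso M) {y : α → F} (hy : gblk M *ᵥ y = 0)
    (hd : dblk M *ᵥ y = 0) : (corner M *ᵥ y) ᵥ* gblk M = 0 := by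
  have e : ((corner M)ᵀ * gblk M + (dblk M)ᵀ * dblk M + (gblk M)ᵀ * corner M) *ᵥ y = 0 := by
    rw [hM.corner_rel, zero_mulVec]
  rw [add_mulVec, add_mulVec, ← mulVec_mulVec, hy, mulVec_zero, zero_add, ← mulVec_mulVec, hd, mulVec_zero,
    zero_add, ← mulVec_mulVec, mulVec_transpose] at e
  exact e

theorem eq_zero_of_blocks {M : Mat F α} (hM : Iso M) {y : α → F} (ha : corner M *ᵥ y = 0)
    (hd : dblk M *ᵥ y = 0) (hg : gblk M *ᵥ y = 0) : y = 0 := by
  obtain ⟨w, hw⟩ : ∃ w : Idx α → F, w = Sum.elim y 0 := ⟨_, rfl⟩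
  have hMw : M *ᵥ w = 0 := by
    obtain ⟨a, b, c, d, e, f, g, h, i, rfl⟩ := exists_blk M
    rw [corner_blk] at ha
    rw [dblk_blk] at hd
    rw [gblk_blk] at hg
    funext k
    rcases k with k | k | k
    · simpa [hw, mulVec, dotProduct, blk, Fintype.sum_sum_type] using congrFun ha k
    · simpa [hw, mulVec, dotProduct, blk, Fintype.sum_sum_type] using congrFun hd k
    · simpa [hw, mulVec, dotProduct, blk, Fintype.sum_sum_type] using congrFun hg k
  have : w = 0 := by rw [← one_mulVec w, ← hM.ji_mul', ← mulVec_mulVec, hMw, mulVec_zero]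
  funext i
  simpa [hw] using congrFun this (.inl i)

/-! ### Maximality -/

/-- The projection killing the coordinate `x`. -/
def proj (F : Type*) [Field F] (x : α) : Matrix α α F := diagonal fun i => if i = x then 0 else 1

theorem proj_mul_mul (x : α) (g : Matrix α α F) (i l : α) :
    (proj F x * g * proj F x) i l = if i = x ∨ l = x then 0 else g i l := by
  rw [proj, mul_diagonal, diagonal_mul]
  by_cases hi : i = x <;> by_cases hl : l = x <;> simp [hi, hl]

theorem rank_lt_of_range {g : Matrix α α F} (x : α) (v : α → F) {c : F} (hc : c ≠ 0)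
    (hv : g *ᵥ v = c • Pi.single x 1) : (proj F x * g * proj F x).rank < g.rank := by
  refine lt_of_le_of_lt (Matrix.rank_mul_le_left _ _) ?_
  let p : (α → F) →ₗ[F] (α → F) := Matrix.mulVecLin (proj F x)
  have hr : Matrix.rank (proj F x * g) = Module.finrank F ((LinearMap.range g.mulVecLin).map p) := by
    rw [Matrix.rank, Matrix.mulVecLin_mul, LinearMap.range_comp]
  rw [hr, Matrix.rank]
  let q : LinearMap.range g.mulVecLin →ₗ[F] (α → F) := p.comp (LinearMap.range g.mulVecLin).subtype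
  have hq : LinearMap.range q = (LinearMap.range g.mulVecLin).map p := by
    rw [LinearMap.range_comp, Submodule.range_subtype]
  rw [← hq, ← q.finrank_range_add_finrank_ker]
  refine Nat.lt_add_of_pos_right ?_
  have hmem : (⟨g *ᵥ v, v, rfl⟩ : LinearMap.range g.mulVecLin) ∈ LinearMap.ker q := by
    rw [LinearMap.mem_ker]
    show proj F x *ᵥ (g *ᵥ v) = 0
    rw [hv]
    funext i
    rcases eq_or_ne i x with rfl | hi <;> simp [proj, mulVec_diagonal, Pi.single_apply, *]
  refine (Module.finrank_pos_iff_exists_ne_zero (M := LinearMap.ker q)).2 ⟨⟨_, hmem⟩, fun h => ?_⟩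
  have h' : g *ᵥ v = 0 := congrArg Subtype.val (congrArg Subtype.val h)
  rw [hv] at h'
  exact hc (by simpa using congrFun h' x)

theorem rank_proj_eq {g : Matrix α α F} (x : α) {s r : α → F} (hs : g *ᵥ s = 0) (hsx : s x ≠ 0)
    (hr : r ᵥ* g = 0) (hrx : r x ≠ 0) : g.rank ≤ (proj F x * g * proj F x).rank := by
  obtain ⟨V, hV⟩ : ∃ V : Matrix α α F, V = 1 - vecMulVec ((s x)⁻¹ • s) (Pi.single x 1) := ⟨_, rfl⟩
  obtain ⟨U, hU⟩ : ∃ U : Matrix α α F, U = 1 - vecMulVec (Pi.single x 1) ((r x)⁻¹ • r) := ⟨_, rfl⟩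
  have hgV : g * V = g := by
    rw [hV, Matrix.mul_sub, Matrix.mul_one, mul_vecMulVec, mulVec_smul, hs, smul_zero, zero_vecMulVec, sub_zero]
  have hUg : U * g = g := by
    rw [hU, Matrix.sub_mul, Matrix.one_mul, vecMulVec_mul, smul_vecMul, hr, smul_zero, vecMulVec_zero, sub_zero]
  have hpV : proj F x * V = V := by
    ext i j
    rw [proj, diagonal_mul]
    rcases eq_or_ne i x with rfl | hi
    · rw [if_pos rfl, zero_mul, hV, Matrix.sub_apply, vecMulVec_apply]
      rcases eq_or_ne i j with rfl | hij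
      · simp [hsx]
      · simp [hij, Ne.symm hij]
    · simp [hi]
  have hUp : U * proj F x = U := by
    ext i j
    rw [proj, mul_diagonal]
    rcases eq_or_ne j x with rfl | hj
    · rw [if_pos rfl, mul_zero, hU, Matrix.sub_apply, vecMulVec_apply]
      rcases eq_or_ne i j with rfl | hij
      · simp [hrx]
      · simp [hij]
    · simp [hj]
  calc g.rank = (U * (proj F x * g * proj F x) * V).rank := by
        rw [show U * (proj F x * g * proj F x) * V = (U * proj F x) * g * (proj F x * V) by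
          simp only [Matrix.mul_assoc], hUp, hpV, hUg, hgV]
    _ ≤ _ := (Matrix.rank_mul_le_left _ _).trans (Matrix.rank_mul_le_right _ _)

/-- A kernel vector must be sent into the hyperplane. -/
theorem max_corner_zero (h2 : (2 : F) ≠ 0) {M : Mat F α} (hM : Iso M) (hmax : IsMax M) {x : α} {y s r : α → F}
    (hy : gblk M *ᵥ y = 0) (hyx : y x = 0) (hs : gblk M *ᵥ s = 0) (hsx : s x ≠ 0) (hr : r ᵥ* gblk M = 0)
    (hrx : r x ≠ 0) : (corner M *ᵥ y) x = 0 := by
  by_contra hne
  obtain ⟨g', hg'⟩ : ∃ g', g' = gblk (ji (nb x (0 : F)) * M * nb x 0) := ⟨_, rfl⟩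
  have hm : g'.rank ≤ (gblk M).rank := by
    have := hmax (ji (nb x (0 : F))) (iso_nb h2 x 0).ji
    rwa [ji_ji, ← hg'] at this
  have hv : g' *ᵥ y = (corner M *ᵥ y) x • Pi.single x 1 := by
    funext i
    simp only [mulVec, dotProduct, Pi.smul_apply, smul_eq_mul]
    rcases eq_or_ne i x with rfl | hi
    · rw [Pi.single_eq_same, mul_one]
      refine Finset.sum_congr rfl fun l _ => ?_
      rcases eq_or_ne l i with rfl | hl
      · simp [hyx]
      · rw [hg', gblk_nb_row M i 0 hl]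
        simp
    · rw [Pi.single_eq_of_ne hi, mul_zero]
      refine Eq.trans (Finset.sum_congr rfl fun l _ => ?_) (congrFun hy i)
      rcases eq_or_ne l x with rfl | hl
      · simp [hyx]
      · rw [hg', gblk_nb_of_ne M x 0 hi hl]
  have hπ : proj F x * g' * proj F x = proj F x * gblk M * proj F x := by
    ext i l
    rw [proj_mul_mul, proj_mul_mul]
    by_cases h : i = x ∨ l = x
    · rw [if_pos h, if_pos h]
    · rw [if_neg h, if_neg h, hg']
      push Not at h
      exact gblk_nb_of_ne M x 0 h.1 h.2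
  have h1 := rank_lt_of_range x y hne hv
  rw [hπ] at h1
  have h3 := rank_proj_eq x hs hsx hr hrx
  omega

theorem exists_dual_vec {y z : α → F} (h : ∀ c : F, z ≠ c • y) : ∃ p : α → F, p ⬝ᵥ y = 0 ∧ p ⬝ᵥ z ≠ 0 := by
  obtain ⟨φ, hφz, hφy⟩ := Submodule.exists_dual_map_eq_bot_of_notMem (p := Submodule.span F {y}) (x := z)
    (fun hm => by
      obtain ⟨c, hc⟩ := Submodule.mem_span_singleton.1 hm
      exact h c hc.symm) inferInstance
  have hp : ∀ v, (fun i => φ (Pi.single i 1)) ⬝ᵥ v = φ v := fun v => by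
    conv_rhs => rw [pi_eq_sum_univ' v, map_sum]
    simp [dotProduct, mul_comm]
  refine ⟨fun i => φ (Pi.single i 1), ?_, by rwa [hp]⟩
  rw [hp]
  have : φ y ∈ (Submodule.span F {y}).map φ := Submodule.mem_map_of_mem (Submodule.mem_span_singleton_self y)
  rwa [hφy, Submodule.mem_bot] at this

theorem rank_conj_lev {C : Matrix α α F} (hC : IsUnit C.det) (M : Mat F α) :
    (gblk (lev C⁻¹ * M * ji (lev C⁻¹))).rank = (gblk M).rank := by
  rw [(conj_lev hC M).2.1, rank_mul_eq_left_of_isUnit_det _ _ hC,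
    rank_mul_eq_right_of_isUnit_det _ _ (by rwa [det_transpose])]

/-- Two kernels of dimension at least two: scalar. -/
theorem max_scalar (h2 : (2 : F) ≠ 0) {M : Mat F α} (hM : Iso M) (hmax : IsMax M)
    (hk : (gblk M).rank + 2 ≤ Fintype.card α) :
    ∃ l : F, ∀ y, gblk M *ᵥ y = 0 → corner M *ᵥ y = l • y := by
  classical
  obtain ⟨g, hg⟩ : ∃ g, g = gblk M := ⟨_, rfl⟩
  have hkd : 2 ≤ Module.finrank F (LinearMap.ker g.mulVecLin) := by
    have := g.mulVecLin.finrank_range_add_finrank_ker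
    rw [Module.finrank_pi] at this
    rw [← hg] at hk
    change g.rank + _ = _ at this
    omega
  rw [← hg]
  have hcoll : ∀ y, g *ᵥ y = 0 → ∃ c : F, corner M *ᵥ y = c • y := by
    intro y hy
    by_cases hy0 : y = 0
    · exact ⟨0, by simp [hy0]⟩
    by_contra hcon
    push Not at hcon
    obtain ⟨y₁, hy₁, hy₁y⟩ : ∃ y₁, g *ᵥ y₁ = 0 ∧ ∀ c : F, y₁ ≠ c • y := by
      by_contra h
      push Not at h
      have hle : LinearMap.ker g.mulVecLin ≤ Submodule.span F {y} := fun v hv => by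
        obtain ⟨c, hc⟩ := h v (LinearMap.mem_ker.1 hv)
        exact Submodule.mem_span_singleton.2 ⟨c, hc.symm⟩
      have := Submodule.finrank_mono hle
      rw [finrank_span_singleton hy0] at this
      omega
    obtain ⟨p, hpy, hpz, hp1⟩ : ∃ p : α → F, p ⬝ᵥ y = 0 ∧ p ⬝ᵥ (corner M *ᵥ y) ≠ 0 ∧ p ⬝ᵥ y₁ ≠ 0 := by
      obtain ⟨p, hp, hpz⟩ := exists_dual_vec hcon
      obtain ⟨q, hq, hq1⟩ := exists_dual_vec hy₁y
      by_cases h : p ⬝ᵥ y₁ = 0
      · by_cases h' : q ⬝ᵥ (corner M *ᵥ y) = 0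
        · exact ⟨p + q, by rw [add_dotProduct, hp, hq, add_zero], by rwa [add_dotProduct, h', add_zero],
            by rwa [add_dotProduct, h, zero_add]⟩
        · exact ⟨q, hq, h', hq1⟩
      · exact ⟨p, hp, hpz, h⟩
    obtain ⟨x⟩ : Nonempty α := Fintype.card_pos_iff.1 (by omega)
    obtain ⟨A, hA, hAp⟩ := exists_col (z := p) (fun h => hpz (by rw [h, zero_dotProduct])) x
    obtain ⟨C, hC⟩ : ∃ C, C = (Aᵀ)⁻¹ := ⟨_, rfl⟩
    have hAt : IsUnit (Aᵀ).det := by rwa [det_transpose]
    have hCu : IsUnit C.det := hC ▸ isUnit_nonsing_inv_det _ hAt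
    have hCi : C⁻¹ = Aᵀ := by rw [hC, nonsing_inv_nonsing_inv _ hAt]
    have hx : ∀ v, (C⁻¹ *ᵥ v) x = p ⬝ᵥ v := fun v => by
      rw [hCi, ← hAp]
      simp [mulVec, dotProduct, Pi.single_apply]
    have hCC : ∀ v, C *ᵥ (C⁻¹ *ᵥ v) = v := fun v => by rw [mulVec_mulVec, mul_nonsing_inv _ hCu, one_mulVec]
    obtain ⟨hc', hg', hd'⟩ := conj_lev hCu M
    have hP : Iso (lev C⁻¹) := iso_lev (isUnit_nonsing_inv_det _ hCu)
    have hmax' := hmax.of_conj hP (rank_conj_lev hCu M)
    have hker : ∀ v, g *ᵥ v = 0 → gblk (lev C⁻¹ * M * ji (lev C⁻¹)) *ᵥ (C⁻¹ *ᵥ v) = 0 := fun v hv => by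
      rw [hg', ← hg, ← mulVec_mulVec, hCC, ← mulVec_mulVec, hv, mulVec_zero]
    have hM' : Iso (lev C⁻¹ * M * ji (lev C⁻¹)) := iso_conj hP hM
    have hz : corner (lev C⁻¹ * M * ji (lev C⁻¹)) *ᵥ (C⁻¹ *ᵥ y) = C⁻¹ *ᵥ (corner M *ᵥ y) := by
      rw [hc', ← mulVec_mulVec, hCC, ← mulVec_mulVec]
    have hr := corner_mem_left_ker hM' (hker y hy) (dblk_mulVec_ker h2 hM' (hker y hy))
    rw [hz] at hr
    have := max_corner_zero h2 hM' hmax' (hker y hy) (by rw [hx, hpy]) (hker y₁ hy₁) (by rw [hx]; exact hp1) hr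
      (by rw [hx]; exact hpz)
    rw [hz, hx] at this
    exact hpz this
  obtain ⟨y₀, hy₀, hne⟩ := Submodule.exists_mem_ne_zero_of_ne_bot (p := LinearMap.ker g.mulVecLin)
    (fun h => by rw [h, finrank_bot] at hkd; omega)
  have hy₀' : g *ᵥ y₀ = 0 := LinearMap.mem_ker.1 hy₀
  obtain ⟨l, hl⟩ := hcoll y₀ hy₀'
  refine ⟨l, fun y hy => ?_⟩
  by_cases hdep : ∃ c : F, y = c • y₀
  · obtain ⟨c, rfl⟩ := hdep
    rw [mulVec_smul, hl, smul_comm]
  push Not at hdep
  obtain ⟨c, hc⟩ := hcoll y hy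
  obtain ⟨c', hc'⟩ := hcoll (y + y₀) (by rw [mulVec_add, hy, hy₀', add_zero])
  rw [mulVec_add, hc, hl, smul_add] at hc'
  have h1 : (c - c') • y = (c' - l) • y₀ := by
    rw [← sub_eq_zero]
    calc (c - c') • y - (c' - l) • y₀ = (c • y + l • y₀) - (c' • y + c' • y₀) := by module
      _ = 0 := by rw [hc', sub_self]
  have hcc : c = c' := by
    by_contra h
    refine hdep ((c - c')⁻¹ * (c' - l)) ?_
    rw [← smul_smul, ← h1, smul_smul, inv_mul_cancel₀ (sub_ne_zero.2 h), one_smul]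
  rw [hcc, sub_self, zero_smul] at h1
  rcases smul_eq_zero.1 h1.symm with h | h
  · rw [hc, hcc, sub_eq_zero.1 h]
  · exact absurd h hne

/-- A kernel of dimension one: an eigenvector. -/
theorem max_eigen [Fintype F] (h2 : (2 : F) ≠ 0) {M : Mat F α} (hM : Iso M) (hmax : IsMax M)
    (hk : (gblk M).rank + 1 = Fintype.card α) :
    ∃ l : F, ∀ y, gblk M *ᵥ y = 0 → corner M *ᵥ y = l • y := by
  classical
  have hkd : Module.finrank F (LinearMap.ker (gblk M).mulVecLin) = 1 := by
    have := (gblk M).mulVecLin.finrank_range_add_finrank_ker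
    rw [Module.finrank_pi] at this
    change (gblk M).rank + _ = _ at this
    omega
  obtain ⟨⟨s₀, hs₀⟩, hs₀ne, hall⟩ := finrank_eq_one_iff'.1 hkd
  have hgen : ∀ y, gblk M *ᵥ y = 0 → ∃ c : F, y = c • s₀ := fun y hy => by
    obtain ⟨c, hc⟩ := hall ⟨y, LinearMap.mem_ker.2 hy⟩
    exact ⟨c, (congrArg Subtype.val hc).symm⟩
  have hs₀' : gblk M *ᵥ s₀ = 0 := LinearMap.mem_ker.1 hs₀
  suffices h : ∃ c : F, corner M *ᵥ s₀ = c • s₀ by
    obtain ⟨l, hl⟩ := h
    refine ⟨l, fun y hy => ?_⟩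
    obtain ⟨c, rfl⟩ := hgen y hy
    rw [mulVec_smul, hl, smul_comm]
  by_contra hcon
  push Not at hcon
  obtain ⟨p, hp, hpz⟩ := exists_dual_vec hcon
  obtain ⟨x⟩ : Nonempty α := Fintype.card_pos_iff.1 (by omega)
  obtain ⟨A, hA, hAp⟩ := exists_col (z := p) (fun h => hpz (by rw [h, zero_dotProduct])) x
  obtain ⟨C, hC⟩ : ∃ C, C = (Aᵀ)⁻¹ := ⟨_, rfl⟩
  have hAt : IsUnit (Aᵀ).det := by rwa [det_transpose]
  have hCu : IsUnit C.det := hC ▸ isUnit_nonsing_inv_det _ hAt
  have hCi : C⁻¹ = Aᵀ := by rw [hC, nonsing_inv_nonsing_inv _ hAt]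
  have hx : ∀ v, (C⁻¹ *ᵥ v) x = p ⬝ᵥ v := fun v => by
    rw [hCi, ← hAp]
    simp [mulVec, dotProduct, Pi.single_apply]
  have hCC : ∀ v, C *ᵥ (C⁻¹ *ᵥ v) = v := fun v => by rw [mulVec_mulVec, mul_nonsing_inv _ hCu, one_mulVec]
  have hCC' : ∀ v, C⁻¹ *ᵥ (C *ᵥ v) = v := fun v => by rw [mulVec_mulVec, nonsing_inv_mul _ hCu, one_mulVec]
  obtain ⟨hc', hg', hd'⟩ := conj_lev hCu M
  have hP : Iso (lev C⁻¹) := iso_lev (isUnit_nonsing_inv_det _ hCu)
  have hmax' := hmax.of_conj hP (rank_conj_lev hCu M)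
  obtain ⟨N, hN⟩ : ∃ N, N = lev C⁻¹ * M * ji (lev C⁻¹) := ⟨_, rfl⟩
  rw [← hN] at hmax' hc' hg' hd'
  have hNi : Iso N := hN ▸ iso_conj hP hM
  have hNr : (gblk N).rank + 1 = Fintype.card α := by rw [hN, rank_conj_lev hCu M, hk]
  obtain ⟨s, hs⟩ : ∃ s, s = C⁻¹ *ᵥ s₀ := ⟨_, rfl⟩
  have hgs : gblk N *ᵥ s = 0 := by rw [hg', hs, ← mulVec_mulVec, hCC, ← mulVec_mulVec, hs₀', mulVec_zero]
  have hds : dblk N *ᵥ s = 0 := dblk_mulVec_ker h2 hNi hgs
  have hsx : s x = 0 := by rw [hs, hx, hp]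
  obtain ⟨r, hr⟩ : ∃ r, r = corner N *ᵥ s := ⟨_, rfl⟩
  have hrx : r x ≠ 0 := by
    rw [hr, hc', hs, ← mulVec_mulVec, hCC, ← mulVec_mulVec, hx]; exact hpz
  have hrg : r ᵥ* gblk N = 0 := hr ▸ corner_mem_left_ker hNi hgs hds
  have hone : ∀ v, gblk N *ᵥ v = 0 → ∃ c : F, v = c • s := fun v hv => by
    rw [hg', ← mulVec_mulVec, ← mulVec_mulVec] at hv
    obtain ⟨c, hc⟩ := hgen (C *ᵥ v) (by
      have := congrArg (fun w => (Cᵀ)⁻¹ *ᵥ w) hv
      simpa [mulVec_mulVec, nonsing_inv_mul _ (show IsUnit (Cᵀ).det by rwa [det_transpose]), ← Matrix.mul_assoc]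
        using this)
    exact ⟨c, by rw [hs, ← mulVec_smul, ← hc, hCC']⟩
  obtain ⟨l, hl, hlx⟩ : ∃ l : α → F, l ᵥ* gblk N = Pi.single x 1 ∧ l x = 0 := by
    let φ : (α → F) →ₗ[F] F := dotProductBilin F F s
    have hle : LinearMap.range (gblk N)ᵀ.mulVecLin ≤ LinearMap.ker φ := by
      rintro v ⟨w, rfl⟩
      rw [LinearMap.mem_ker]
      show s ⬝ᵥ (gblk N)ᵀ *ᵥ w = 0
      rw [dotProduct_mulVec, vecMul_transpose, hgs, zero_dotProduct]
    have hs0 : s ≠ 0 := fun h => hs₀ne (Subtype.ext (by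
      show s₀ = 0
      have e := hCC s₀
      rw [← hs, h, mulVec_zero] at e
      exact e.symm))
    have hr1 : 0 < Module.finrank F (LinearMap.range φ) := by
      obtain ⟨i, hi⟩ := Function.ne_iff.1 hs0
      refine Module.finrank_pos_iff_exists_ne_zero.2 ⟨⟨φ (Pi.single i 1), _, rfl⟩, fun h => hi ?_⟩
      simpa [φ] using congrArg Subtype.val h
    have h1 := φ.finrank_range_add_finrank_ker
    rw [Module.finrank_pi] at h1
    have heq := Submodule.eq_of_le_of_finrank_le hle (by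
      change _ ≤ (gblk N)ᵀ.rank
      rw [rank_transpose]; omega)
    obtain ⟨l₀, hl₀⟩ : Pi.single x 1 ∈ LinearMap.range (gblk N)ᵀ.mulVecLin := by
      rw [heq, LinearMap.mem_ker]
      show s ⬝ᵥ Pi.single x 1 = 0
      simp [hsx]
    refine ⟨l₀ - (l₀ x / r x) • r, ?_, by simp [hrx]⟩
    rw [sub_vecMul, smul_vecMul, hrg, smul_zero, sub_zero, ← mulVec_transpose]
    exact hl₀
  obtain ⟨B, hB⟩ : ∃ B, B = ∑ i, l i * N (.inr (.inr i)) (.inr (.inl ())) := ⟨_, rfl⟩
  obtain ⟨C₀, hC₀⟩ : ∃ C₀, C₀ = ∑ i, l i * N (.inr (.inr i)) (.inr (.inr x)) := ⟨_, rfl⟩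
  have hlg : (∑ i, l i * gblk N i x) = 1 := by simpa [vecMul, dotProduct] using congrFun hl x
  have hq : ∀ t : F, (∑ i, l i * gblk (ji (nb x t) * N * nb x t) i x) = -(t * t / 2) + t * B + C₀ := by
    intro t
    have e : ∀ i, l i * gblk (ji (nb x t) * N * nb x t) i x =
        -(t * t / 2) * (l i * gblk N i x) + t * (l i * N (.inr (.inr i)) (.inr (.inl ()))) +
          l i * N (.inr (.inr i)) (.inr (.inr x)) := by
      intro i
      rcases eq_or_ne i x with rfl | hi
      · simp [hlx]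
      · rw [gblk_nb, if_neg hi, if_pos rfl, dot_jm, gblk_apply]
        simp [nbVec, mulVec, dotProduct, Fintype.sum_sum_type, Pi.single_apply]
        ring
    rw [Finset.sum_congr rfl fun i _ => e i, Finset.sum_add_distrib, Finset.sum_add_distrib, ← Finset.mul_sum,
      ← Finset.mul_sum, hlg, ← hB, ← hC₀, mul_one]
  obtain ⟨t, ht⟩ : ∃ t : F, -(t * t / 2) + t * B + C₀ ≠ 0 := by
    by_contra h
    push Not at h
    have e0 := h 0
    have e1 := h 1
    have e2 := h (-1)
    field_simp at e0 e1 e2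
    exact one_ne_zero (show (1 : F) = 0 by
      refine (mul_eq_zero.1 (show (2 : F) * 1 = 0 by linear_combination 2 * e0 - e1 - e2)).resolve_left h2)
  obtain ⟨g', hg''⟩ : ∃ g', g' = gblk (ji (nb x t) * N * nb x t) := ⟨_, rfl⟩
  have hm : g'.rank ≤ (gblk N).rank := by
    have := hmax' (ji (nb x t)) (iso_nb h2 x t).ji
    rwa [ji_ji, ← hg''] at this
  have hinj : ∀ v, g' *ᵥ v = 0 → v = 0 := by
    intro v hv
    have hrow : ∀ i, i ≠ x → (gblk N *ᵥ v) i + v x * (g' i x - gblk N i x) = 0 := by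
      intro i hi
      have e := congrFun hv i
      simp only [mulVec, dotProduct, Pi.zero_apply] at e ⊢
      rw [← e, ← Finset.add_sum_erase _ _ (Finset.mem_univ x),
        ← Finset.add_sum_erase _ (fun l => g' i l * v l) (Finset.mem_univ x)]
      have : ∑ l ∈ Finset.univ.erase x, g' i l * v l = ∑ l ∈ Finset.univ.erase x, gblk N i l * v l :=
        Finset.sum_congr rfl fun l hl => by rw [hg'', gblk_nb_of_ne N x t hi (Finset.mem_erase.1 hl).1]
      rw [this]
      ring
    have hvx : v x = 0 := by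
      have e : ∑ i, l i * ((gblk N *ᵥ v) i + v x * (g' i x - gblk N i x)) = 0 :=
        Finset.sum_eq_zero fun i _ => by
          rcases eq_or_ne i x with rfl | hi
          · rw [hlx, zero_mul]
          · rw [hrow i hi, mul_zero]
      have e1 : ∑ i, l i * (gblk N *ᵥ v) i = v x := by
        show l ⬝ᵥ gblk N *ᵥ v = v x
        rw [dotProduct_mulVec, hl, single_dotProduct, one_mul]
      have e2 : ∀ i, l i * (v x * (g' i x - gblk N i x)) = v x * (l i * g' i x) - v x * (l i * gblk N i x) :=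
        fun i => by ring
      rw [Finset.sum_congr rfl fun i _ => mul_add (l i) _ _, Finset.sum_add_distrib, e1,
        Finset.sum_congr rfl fun i _ => e2 i, Finset.sum_sub_distrib, ← Finset.mul_sum, ← Finset.mul_sum, hlg,
        hg'', hq t] at e
      exact (mul_eq_zero.1 (show v x * (-(t * t / 2) + t * B + C₀) = 0 by linear_combination e)).resolve_right ht
    have hgv : gblk N *ᵥ v = 0 := by
      funext i
      rcases eq_or_ne i x with rfl | hi
      · have e : r ⬝ᵥ gblk N *ᵥ v = 0 := by rw [dotProduct_mulVec, hrg, zero_dotProduct]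
        rw [dotProduct, Finset.sum_eq_single i] at e
        · exact (mul_eq_zero.1 e).resolve_left hrx
        · intro j _ hj
          have := hrow j hj
          rw [hvx, zero_mul, add_zero] at this
          rw [this, mul_zero]
        · simp
      · have := hrow i hi
        rw [hvx, zero_mul, add_zero] at this
        exact this
    obtain ⟨c, rfl⟩ := hone v hgv
    have e := congrFun hv x
    simp only [mulVec, dotProduct, Pi.zero_apply] at e
    have hsum : ∑ l, g' x l * (c • s) l = c * r x := by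
      have h1 : ∀ l, g' x l * (c • s) l =
          c * (-(t * t / 2) * (gblk N x l * s l) + t * (dblk N () l * s l) + corner N x l * s l) := fun l => by
        rcases eq_or_ne l x with rfl | hl
        · simp [hsx]
        · rw [hg'', gblk_nb_row N x t hl, Pi.smul_apply, smul_eq_mul]; ring
      rw [Finset.sum_congr rfl fun l _ => h1 l, ← Finset.mul_sum, Finset.sum_add_distrib, Finset.sum_add_distrib,
        ← Finset.mul_sum, ← Finset.mul_sum]
      have g1 : ∑ l, gblk N x l * s l = 0 := congrFun hgs x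
      have g2 : ∑ l, dblk N () l * s l = 0 := congrFun hds ()
      rw [g1, g2, hr]
      simp [mulVec, dotProduct]
    rw [hsum] at e
    rw [(mul_eq_zero.1 e).resolve_right hrx, zero_smul]
  have : g'.rank = Fintype.card α := by
    rw [Matrix.rank, LinearMap.finrank_range_of_inj, Module.finrank_pi]
    exact (injective_iff_map_eq_zero g'.mulVecLin).2 hinj
  omega

end CfsgLib.OmegaComm
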