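import Cfsg.Agent.Lib.Classical.OmegaComm.Units
import Cfsg.Agent.Lib.Classical.AltBasis

/-!
# Prescribed cyclic corners for a given lower left block

For invertible `G` a basis change makes `G` upper triangular or antidiagonal, and then `S * G` is a Hessenberg
matrix for a suitable `S` with `S + Sᵀ + μ μᵀ = 0`.
-/

set_option autoImplicit false
set_option linter.unusedSectionVars false

namespace CfsgLib.OmegaComm

open Matrix CfsgLib.Classical

variable {F : Type*} [Field F] {k : ℕ}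

/-- Upper Hessenberg with non-zero subdiagonal. -/
def Hess (A : Matrix (Fin k) (Fin k) F) : Prop :=
  ∀ i j : Fin k, ((j : ℕ) + 1 < i → A i j = 0) ∧ ((j : ℕ) + 1 = i → A i j ≠ 0)

theorem cyc_of_hess {A : Matrix (Fin k) (Fin k) F} (hA : Hess A) : Cyc A := by
  rcases Nat.eq_zero_or_pos k with rfl | hk
  · exact ⟨0, by rw [Matrix.det_isEmpty]; exact isUnit_one⟩
  obtain ⟨v, hv⟩ : ∃ v : Fin k → F, v = Pi.single ⟨0, hk⟩ 1 := ⟨_, rfl⟩
  refine ⟨v, ?_⟩
  have key : ∀ j : ℕ, ∀ i : Fin k, (j < i → ((A ^ j) *ᵥ v) i = 0) ∧ (j = i → ((A ^ j) *ᵥ v) i ≠ 0) := by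
    intro j
    induction j with
    | zero =>
      intro i
      rw [pow_zero, one_mulVec, hv]
      refine ⟨fun h => ?_, fun h => ?_⟩
      · rw [Pi.single_eq_of_ne]
        rintro rfl
        exact lt_irrefl 0 h
      · rw [show i = ⟨0, hk⟩ from Fin.ext h.symm, Pi.single_eq_same]
        exact one_ne_zero
    | succ j ih =>
      intro i
      rw [pow_succ', ← mulVec_mulVec]
      refine ⟨fun h => ?_, fun h => ?_⟩
      · show ∑ l, A i l * ((A ^ j) *ᵥ v) l = 0
        refine Finset.sum_eq_zero fun l _ => ?_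
        rcases Nat.lt_or_ge j l with hl | hl
        · rw [(ih l).1 hl, mul_zero]
        · rw [(hA i l).1 (by omega), zero_mul]
      · have hj : j < k := by omega
        show ∑ l, A i l * ((A ^ j) *ᵥ v) l ≠ 0
        rw [Finset.sum_eq_single ⟨j, hj⟩]
        · exact mul_ne_zero ((hA i _).2 h) ((ih _).2 rfl)
        · intro l _ hl
          have hl' : (l : ℕ) ≠ j := fun e => hl (Fin.ext e)
          rcases Nat.lt_or_ge j l with hjl | hjl
          · rw [(ih l).1 hjl, mul_zero]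
          · rw [(hA i l).1 (by omega), zero_mul]
        · simp
  rw [det_of_upperTriangular fun i j hij => ?_, isUnit_iff_ne_zero]
  · exact Finset.prod_ne_zero_iff.2 fun i _ => (key i i).2 rfl
  · exact (key j i).1 hij

/-- `S * G` can be a Hessenberg matrix of any determinant in one square class. -/
def Good (G : Matrix (Fin k) (Fin k) F) : Prop :=
  ∃ D : F, D ≠ 0 ∧ ∀ t : F, t ≠ 0 → ∃ (S : Matrix (Fin k) (Fin k) F) (μ : Matrix (Fin k) Unit F),
    S + Sᵀ + μ * μᵀ = 0 ∧ Hess (S * G) ∧ (S * G).det = t ^ 2 * D ∧ (k = 2 → (S * G).trace ≠ 2)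

/-- Scaling a skew-plus-rank-one matrix. -/
theorem scale_rel {S : Matrix (Fin k) (Fin k) F} {μ : Matrix (Fin k) Unit F} (h : S + Sᵀ + μ * μᵀ = 0)
    (δ : Fin k → F) :
    diagonal δ * S * diagonal δ + (diagonal δ * S * diagonal δ)ᵀ + diagonal δ * μ * (diagonal δ * μ)ᵀ = 0 := by
  have : diagonal δ * (S + Sᵀ + μ * μᵀ) * diagonal δ = 0 := by rw [h]; simp
  simpa [Matrix.mul_add, Matrix.add_mul, transpose_mul, Matrix.mul_assoc] using this

theorem diag_mul_entry (δ : Fin k → F) (S : Matrix (Fin k) (Fin k) F) (i j : Fin k) :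
    (diagonal δ * S * diagonal δ) i j = δ i * S i j * δ j := by
  rw [mul_diagonal, diagonal_mul]

section Tri

variable (c : F)

/-- The tridiagonal matrix. -/
def triS (k : ℕ) : Matrix (Fin k) (Fin k) F := Matrix.of fun i j =>
  (if (i : ℕ) = 0 ∧ (j : ℕ) = 0 then -(c * c / 2) else 0) + (if (j : ℕ) + 1 = i then 1 else 0) -
    if (i : ℕ) + 1 = j then 1 else 0

theorem triS_rel (h2 : (2 : F) ≠ 0) :
    triS c k + (triS c k)ᵀ + Matrix.of (fun (i : Fin k) (_ : Unit) => if (i : ℕ) = 0 then c else 0) *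
      (Matrix.of fun (i : Fin k) (_ : Unit) => if (i : ℕ) = 0 then c else 0)ᵀ = 0 := by
  ext i j
  simp only [triS, Matrix.add_apply, transpose_apply, of_apply, Matrix.mul_apply, Finset.univ_unique,
    Finset.sum_singleton, Matrix.zero_apply]
  rcases eq_or_ne (i : ℕ) 0 with hi | hi <;> rcases eq_or_ne (j : ℕ) 0 with hj | hj <;>
    simp [hi, hj] <;> field_simp <;> ring

theorem det_triS_ne (hc : Odd k → c ≠ 0) (h2 : (2 : F) ≠ 0) : (triS c k).det ≠ 0 := fun h => by
  obtain ⟨v, hv0, hv⟩ := Matrix.exists_mulVec_eq_zero_iff.2 h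
  obtain ⟨V, hV⟩ : ∃ V : ℕ → F, V = fun n => if h : n < k then v ⟨n, h⟩ else 0 := ⟨_, rfl⟩
  have hVk : ∀ n, k ≤ n → V n = 0 := fun n hn => by rw [hV]; exact dif_neg (by omega)
  have hVi : ∀ i : Fin k, v i = V i := fun i => by rw [hV]; simp
  have hrow : ∀ i : Fin k, (if (i : ℕ) = 0 then -(c * c / 2) * V 0 else V (i - 1)) - V (i + 1) = 0 := by
    intro i
    have e := congrFun hv i
    simp only [mulVec, dotProduct, triS, of_apply, sub_mul, add_mul, Finset.sum_sub_distrib, Finset.sum_add_distrib,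
      ite_mul, one_mul, zero_mul, Pi.zero_apply] at e
    rw [← e]
    congr 1
    · rcases eq_or_ne (i : ℕ) 0 with hi | hi
      · have hk : 0 < k := by omega
        rw [if_pos hi, Finset.sum_eq_single ⟨0, hk⟩, Finset.sum_eq_zero, add_zero]
        · simp [hi, hVi]
        · intro l _; rw [if_neg (by omega)]
        · intro l _ hl
          rw [if_neg fun hh => hl (Fin.ext hh.2)]
        · simp
      · rw [if_neg hi, Finset.sum_eq_zero (fun l _ => if_neg fun hh => hi hh.1), zero_add,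
          Finset.sum_eq_single ⟨(i : ℕ) - 1, by omega⟩]
        · rw [if_pos (show (i : ℕ) - 1 + 1 = i by omega), hVi]
        · intro l _ hl
          rw [if_neg fun hh => hl (Fin.ext (show (l : ℕ) = i - 1 by omega))]
        · simp
    · rcases Nat.lt_or_ge ((i : ℕ) + 1) k with hi | hi
      · rw [Finset.sum_eq_single ⟨(i : ℕ) + 1, hi⟩]
        · rw [if_pos rfl, hVi]
        · intro l _ hl
          rw [if_neg fun hh => hl (Fin.ext hh.symm)]
        · simp
      · rw [hVk _ hi, Finset.sum_eq_zero fun l _ => if_neg (by omega)]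
  have hback : ∀ j, 2 * j ≤ k → V (k - 2 * j) = 0 := by
    intro j
    induction j with
    | zero => exact fun _ => hVk _ (by omega)
    | succ j ih =>
      intro hj
      have e := hrow ⟨k - 2 * j - 1, by omega⟩
      rw [if_neg (show k - 2 * j - 1 ≠ 0 by omega)] at e
      simp only [show k - 2 * j - 1 - 1 = k - 2 * (j + 1) by omega, show k - 2 * j - 1 + 1 = k - 2 * j by omega,
        ih (by omega), sub_zero] at e
      exact e
  have h01 : V 0 = 0 ∧ V 1 = 0 := by
    rcases Nat.eq_zero_or_pos k with rfl | hk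
    · exact ⟨hVk _ le_rfl, hVk _ (by omega)⟩
    have e := hrow ⟨0, hk⟩
    simp at e
    rcases Nat.even_or_odd k with ⟨j, hj⟩ | ⟨j, hj⟩
    · have h0 := hback j (by omega)
      rw [show k - 2 * j = 0 by omega] at h0
      rw [h0] at e
      exact ⟨h0, by linear_combination -e⟩
    · have h1 := hback j (by omega)
      rw [show k - 2 * j = 1 by omega] at h1
      rw [h1] at e
      exact ⟨by simpa [hc ⟨j, hj⟩, h2] using e, h1⟩
  have hall : ∀ n, V n = 0 ∧ V (n + 1) = 0 := by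
    intro n
    induction n with
    | zero => exact h01
    | succ n ih =>
      refine ⟨ih.2, ?_⟩
      rcases Nat.lt_or_ge (n + 1) k with hn | hn
      · have e := hrow ⟨n + 1, hn⟩
        simp only [Nat.add_one_sub_one, show n + 1 ≠ 0 by omega, if_false, ih.1, zero_sub, neg_eq_zero] at e
        exact e
      · exact hVk _ (by omega)
  exact hv0 (funext fun i => by rw [hVi]; exact (hall _).1)

theorem good_tri (h2 : (2 : F) ≠ 0) (hk : 0 < k) {G : Matrix (Fin k) (Fin k) F}
    (hG : ∀ i j : Fin k, (j : ℕ) < i → G i j = 0) (hd : ∀ i, G i i ≠ 0) : Good G := by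
  have hGdet : G.det ≠ 0 := by
    rw [det_of_upperTriangular fun i j hij => hG i j hij]
    exact Finset.prod_ne_zero_iff.2 fun i _ => hd i
  have main : ∀ (c : F), (Odd k → c ≠ 0) → ∀ t : F, t ≠ 0 → ∃ (S : Matrix (Fin k) (Fin k) F) (μ : Matrix (Fin k) Unit F),
      S + Sᵀ + μ * μᵀ = 0 ∧ Hess (S * G) ∧ (S * G).det = t ^ 2 * ((triS c k).det * G.det) ∧
        S = diagonal (fun i : Fin k => if (i : ℕ) + 1 = k then t else 1) * triS c k *
          diagonal (fun i : Fin k => if (i : ℕ) + 1 = k then t else 1) := by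
    intro c hc t ht
    obtain ⟨δ, hδ⟩ : ∃ δ : Fin k → F, δ = fun (i : Fin k) => if (i : ℕ) + 1 = k then t else 1 := ⟨_, rfl⟩
    have hδ0 : ∀ i, δ i ≠ 0 := fun i => by rw [hδ]; dsimp; split_ifs; exacts [ht, one_ne_zero]
    rw [← hδ]
    refine ⟨_, _, scale_rel (triS_rel c h2) δ, fun i j => ⟨fun h => ?_, fun h => ?_⟩, ?_, rfl⟩
    · rw [Matrix.mul_apply]
      refine Finset.sum_eq_zero fun l _ => ?_
      rcases Nat.lt_or_ge (j : ℕ) l with hl | hl
      · rw [hG l j hl, mul_zero]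
      · rw [diag_mul_entry, triS, of_apply, if_neg (by omega), if_neg (by omega), if_neg (by omega)]
        simp
    · rw [Matrix.mul_apply, Finset.sum_eq_single j]
      · refine mul_ne_zero ?_ (hd j)
        rw [diag_mul_entry, triS, of_apply, if_neg (by omega), if_pos h, if_neg (by omega)]
        simpa using mul_ne_zero (hδ0 i) (hδ0 j)
      · intro l _ hl
        have hl' : (l : ℕ) ≠ j := fun e => hl (Fin.ext e)
        rcases Nat.lt_or_ge (j : ℕ) l with hjl | hjl
        · rw [hG l j hjl, mul_zero]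
        · rw [diag_mul_entry, triS, of_apply, if_neg (by omega), if_neg (by omega), if_neg (by omega)]
          simp
      · simp
    · have hdd : (diagonal δ).det = t := by
        rw [det_diagonal, Finset.prod_eq_single ⟨k - 1, by omega⟩]
        · rw [hδ]; simp; omega
        · intro l _ hl
          have : (l : ℕ) + 1 ≠ k := fun e => hl (Fin.ext (show (l : ℕ) = k - 1 by omega))
          rw [hδ]; simp [this]
        · simp
      rw [det_mul, det_mul, det_mul, hdd]
      ring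
  by_cases hk2 : k = 2
  · subst hk2
    have h00 : ∀ c : F, (triS c 2).det = 1 := fun c => by simp [det_fin_two, triS]
    refine ⟨G.det, hGdet, fun t ht => ?_⟩
    have hodd : ¬ Odd 2 := by decide
    obtain ⟨S, μ, e1, e2, e3, e4⟩ := main 0 (fun h => absurd h hodd) t ht
    by_cases htr : (S * G).trace = 2
    · obtain ⟨S', μ', f1, f2, f3, f4⟩ := main 1 (fun h => absurd h hodd) t ht
      refine ⟨S', μ', f1, f2, by rw [f3, h00, one_mul], fun _ h => ?_⟩
      rw [f4] at h
      rw [e4] at htr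
      simp [trace_fin_two, Matrix.mul_apply, Fin.sum_univ_two, diagonal_apply, triS, hG 1 0 (by simp)] at h htr
      refine hd 0 ((mul_eq_zero.1 (show (2 : F)⁻¹ * G 0 0 = 0 by linear_combination htr - h)).resolve_left ?_)
      simp [h2]
    · exact ⟨S, μ, e1, e2, by rw [e3, h00, one_mul], fun _ => htr⟩
  · refine ⟨(triS 1 k).det * G.det, mul_ne_zero (det_triS_ne 1 (fun _ => one_ne_zero) h2) hGdet, fun t ht => ?_⟩
    obtain ⟨S, μ, e1, e2, e3, -⟩ := main 1 (fun _ => one_ne_zero) t ht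
    exact ⟨S, μ, e1, e2, e3, fun h => absurd h hk2⟩

end Tri

/-- The matrix for the antidiagonal shape. -/
def antiS (m k : ℕ) : Matrix (Fin k) (Fin k) F := Matrix.of fun i j =>
  if (i : ℕ) = 0 ∧ (j : ℕ) = m then 1 else if (i : ℕ) = m ∧ (j : ℕ) = 0 then -1
  else if (i : ℕ) = m ∧ (j : ℕ) = m then -(1 / 2) else if (i : ℕ) + j = k ∧ (i : ℕ) ≠ 0 ∧ (j : ℕ) ≠ 0 then
    (if (i : ℕ) < m then 1 else -1) else 0

theorem good_anti (h2 : (2 : F) ≠ 0) {m : ℕ} (hm : 0 < m) (hk : k = 2 * m) {G : Matrix (Fin k) (Fin k) F}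
    (hG : ∀ i j : Fin k, ((i : ℕ) + j + 1 ≠ k → G i j = 0) ∧ ((i : ℕ) + j + 1 = k → G i j ≠ 0))
    (hskew : ∀ i j : Fin k, G j i = -G i j) : Good G := by
  obtain ⟨μ₀, hμ₀⟩ : ∃ μ₀ : Matrix (Fin k) Unit F, μ₀ = Matrix.of fun (i : Fin k) _ => if (i : ℕ) = m then 1 else 0 :=
    ⟨_, rfl⟩
  have hrel : antiS m k + (antiS m k)ᵀ + μ₀ * μ₀ᵀ = 0 := by
    ext i j
    simp only [hμ₀, antiS, Matrix.add_apply, transpose_apply, of_apply, Matrix.mul_apply, Finset.univ_unique,
      Finset.sum_singleton, Matrix.zero_apply]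
    split_ifs <;> first | omega | (field_simp; ring) | simp
  have hSne : (antiS m k : Matrix (Fin k) (Fin k) F).det ≠ 0 := fun h => by
    obtain ⟨v, hv0, hv⟩ := Matrix.exists_mulVec_eq_zero_iff.2 h
    have hr : ∀ i j : Fin k, (∀ l : Fin k, l ≠ j → antiS (F := F) m k i l = 0) → antiS (F := F) m k i j ≠ 0 →
        v j = 0 := fun i j h1 h2' => by
      have e := congrFun hv i
      simp only [mulVec, dotProduct, Pi.zero_apply] at e
      rw [Finset.sum_eq_single j (fun l _ hl => by rw [h1 l hl, zero_mul]) (by simp)] at e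
      exact (mul_eq_zero.1 e).resolve_left h2'
    have hk0 : 0 < k := by omega
    have hm' : m < k := by omega
    have hoff : ∀ j : Fin k, (j : ℕ) ≠ 0 → (j : ℕ) ≠ m → v j = 0 := fun j hj0 hjm => by
      refine hr ⟨k - j, by omega⟩ j (fun l hl => ?_) ?_
      · have : (l : ℕ) ≠ j := fun e => hl (Fin.ext e)
        simp only [antiS, of_apply]
        split_ifs <;> first | omega | rfl
      · simp only [antiS, of_apply]
        split_ifs <;> first | omega | simp
    have hvm : v ⟨m, hm'⟩ = 0 := by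
      refine hr ⟨0, hk0⟩ _ (fun l hl => ?_) ?_
      · have : (l : ℕ) ≠ m := fun e => hl (Fin.ext e)
        simp only [antiS, of_apply]
        split_ifs <;> first | omega | rfl
      · simp [antiS]
    have hv00 : v ⟨0, hk0⟩ = 0 := by
      have e := congrFun hv ⟨m, hm'⟩
      simp only [mulVec, dotProduct, Pi.zero_apply] at e
      rw [Finset.sum_eq_single ⟨0, hk0⟩] at e
      · simpa [antiS, hm.ne', hm.ne] using e
      · intro l _ hl
        rcases eq_or_ne (l : ℕ) m with h | h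
        · rw [show l = ⟨m, hm'⟩ from Fin.ext h, hvm, mul_zero]
        · rw [hoff l (fun e => hl (Fin.ext e)) h, mul_zero]
      · simp
    refine hv0 (funext fun j => ?_)
    rcases eq_or_ne (j : ℕ) 0 with h0 | h0
    · rw [show j = ⟨0, hk0⟩ from Fin.ext h0]; exact hv00
    · rcases eq_or_ne (j : ℕ) m with h1 | h1
      · rw [show j = ⟨m, hm'⟩ from Fin.ext h1]; exact hvm
      · exact hoff j h0 h1
  have hGne : G.det ≠ 0 := fun h => by
    obtain ⟨v, hv0, hv⟩ := Matrix.exists_mulVec_eq_zero_iff.2 h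
    refine hv0 (funext fun j => ?_)
    have e := congrFun hv ⟨k - 1 - j, by omega⟩
    simp only [mulVec, dotProduct, Pi.zero_apply] at e
    rw [Finset.sum_eq_single j] at e
    · exact (mul_eq_zero.1 e).resolve_left ((hG _ _).2 (show k - 1 - (j : ℕ) + j + 1 = k by omega))
    · intro l _ hl
      have : (l : ℕ) ≠ j := fun e => hl (Fin.ext e)
      rw [(hG _ _).1 (show k - 1 - (j : ℕ) + l + 1 ≠ k by omega), zero_mul]
    · simp
  have main : ∀ t : F, t ≠ 0 → ∃ (S : Matrix (Fin k) (Fin k) F) (μ : Matrix (Fin k) Unit F),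
      S + Sᵀ + μ * μᵀ = 0 ∧ Hess (S * G) ∧ (S * G).det = t ^ 2 * ((antiS m k).det * G.det) ∧
        S = diagonal (fun i : Fin k => if (i : ℕ) = 0 then t else 1) * antiS m k *
          diagonal (fun i : Fin k => if (i : ℕ) = 0 then t else 1) := by
    intro t ht
    obtain ⟨δ, hδ⟩ : ∃ δ : Fin k → F, δ = fun (i : Fin k) => if (i : ℕ) = 0 then t else 1 := ⟨_, rfl⟩
    have hδ0 : ∀ i, δ i ≠ 0 := fun i => by rw [hδ]; dsimp; split_ifs; exacts [ht, one_ne_zero]
    rw [← hδ]
    refine ⟨_, _, scale_rel hrel δ, fun i j => ⟨fun h => ?_, fun h => ?_⟩, ?_, rfl⟩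
    · rw [Matrix.mul_apply]
      refine Finset.sum_eq_zero fun l _ => ?_
      rcases eq_or_ne ((l : ℕ) + j + 1) k with hl | hl
      · rw [diag_mul_entry]
        suffices antiS (F := F) m k i l = 0 by rw [this]; simp
        simp only [antiS, of_apply]
        split_ifs <;> first | omega | rfl
      · rw [(hG l j).1 hl, mul_zero]
    · rw [Matrix.mul_apply, Finset.sum_eq_single ⟨k - 1 - j, by omega⟩]
      · refine mul_ne_zero ?_ ((hG _ _).2 (show k - 1 - (j : ℕ) + j + 1 = k by omega))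
        rw [diag_mul_entry]
        refine mul_ne_zero (mul_ne_zero (hδ0 _) ?_) (hδ0 _)
        simp only [antiS, of_apply]
        split_ifs <;> first | omega | simp [h2]
      · intro l _ hl
        have hl' : (l : ℕ) ≠ k - 1 - j := fun e => hl (Fin.ext e)
        rw [(hG l j).1 (by omega), mul_zero]
      · simp
    · have hdd : (diagonal δ).det = t := by
        rw [det_diagonal, Finset.prod_eq_single ⟨0, by omega⟩]
        · rw [hδ]; simp
        · intro l _ hl
          have : (l : ℕ) ≠ 0 := fun e => hl (Fin.ext e)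
          rw [hδ]; simp [this]
        · simp
      rw [det_mul, det_mul, det_mul, hdd]
      ring
  refine ⟨(antiS m k).det * G.det, mul_ne_zero hSne hGne, fun t ht => ?_⟩
  by_cases hk2 : k = 2
  · obtain rfl : m = 1 := by omega
    subst hk2
    obtain ⟨S, μ, e1, e2, e3, e4⟩ := main t ht
    by_cases htr : (S * G).trace = 2
    · obtain ⟨S', μ', f1, f2, f3, f4⟩ := main (-t) (neg_ne_zero.2 ht)
      refine ⟨S', μ', f1, f2, by rw [f3]; ring, fun _ h => ?_⟩
      rw [f4] at h
      rw [e4] at htr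
      simp [trace_fin_two, Matrix.mul_apply, Fin.sum_univ_two, diagonal_apply, antiS, (hG 0 0).1 (by simp),
        (hG 1 1).1 (by simp)] at h htr
      exact h2 ((mul_eq_zero.1 (show (2 : F) * 2 = 0 by linear_combination -htr - h)).elim id id)
    · exact ⟨S, μ, e1, e2, e3, fun _ => htr⟩
  · obtain ⟨S, μ, e1, e2, e3, -⟩ := main t ht
    exact ⟨S, μ, e1, e2, e3, fun h => absurd h hk2⟩

theorem form_congr {α β : Type} [Fintype α] [Fintype β] (B : Matrix α β F) (G : Matrix α α F) (x y : β → F) :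
    x ⬝ᵥ (Bᵀ * G * B) *ᵥ y = (B *ᵥ x) ⬝ᵥ G *ᵥ (B *ᵥ y) := by
  rw [← mulVec_mulVec, ← mulVec_mulVec, dotProduct_mulVec x Bᵀ, vecMul_transpose]

/-- A unit matrix with a given column. -/
theorem exists_col {α : Type} [Fintype α] [DecidableEq α] {z : α → F} (hz : z ≠ 0) (x : α) :
    ∃ A : Matrix α α F, IsUnit A.det ∧ A *ᵥ Pi.single x 1 = z := by
  obtain ⟨l, hl⟩ := Function.ne_iff.1 hz
  refine ⟨((1 : Matrix α α F).updateCol l z).submatrix id (Equiv.swap x l), ?_, ?_⟩
  · rw [det_permute', ← cramer_apply, cramer_one]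
    exact ((Units.isUnit _).map (Int.castRingHom F)).mul (isUnit_iff_ne_zero.2 hl)
  · funext i
    simp [mulVec_single]

/-- One step of triangularisation. -/
theorem exists_split {G : Matrix (Fin (k + 1)) (Fin (k + 1)) F} {v : Fin (k + 1) → F} (hv : v ⬝ᵥ G *ᵥ v ≠ 0) :
    ∃ B : Matrix (Fin (k + 1)) (Fin (k + 1)) F, IsUnit B.det ∧ B *ᵥ Pi.single 0 1 = v ∧
      ∀ i : Fin k, (Bᵀ * G * B) i.succ 0 = 0 := by
  have hv0 : v ≠ 0 := fun h => hv (by rw [h, zero_dotProduct])
  obtain ⟨B₁, hB₁, e₁⟩ := exists_col hv0 (0 : Fin (k + 1))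
  obtain ⟨G₁, hG₁⟩ : ∃ G₁, G₁ = B₁ᵀ * G * B₁ := ⟨_, rfl⟩
  have h00 : G₁ 0 0 ≠ 0 := by
    rw [hG₁]
    have e : (B₁ *ᵥ Pi.single 0 1) ⬝ᵥ G *ᵥ (B₁ *ᵥ Pi.single 0 1) = (B₁ᵀ * G * B₁) 0 0 := by
      rw [← form_congr]
      simp
    rw [← e, e₁]; exact hv
  obtain ⟨B₂, hB₂⟩ : ∃ B₂ : Matrix (Fin (k + 1)) (Fin (k + 1)) F,
      B₂ = 1 + vecMulVec (Pi.single 0 1) (fun j => if j = 0 then 0 else -(G₁ j 0 / G₁ 0 0)) := ⟨_, rfl⟩
  have hB₂d : B₂.det = 1 := by
    rw [det_of_upperTriangular fun i j hij => ?_]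
    · refine Finset.prod_eq_one fun i _ => ?_
      rcases eq_or_ne i 0 with rfl | hi <;> simp [hB₂, vecMulVec_apply, *]
    · have hij' : j < i := hij
      have hi : i ≠ 0 := fun e => by rw [e] at hij'; exact absurd hij' (Fin.not_lt_zero j)
      simp [hB₂, vecMulVec_apply, hi, Matrix.one_apply, hij'.ne']
  have hB₂0 : B₂ *ᵥ Pi.single 0 1 = Pi.single 0 1 := by
    funext i
    simp [hB₂, mulVec_single, vecMulVec_apply, Matrix.one_apply, Pi.single_apply]
  refine ⟨B₁ * B₂, by rw [det_mul, hB₂d, mul_one]; exact hB₁, by rw [← mulVec_mulVec, hB₂0, e₁], fun i => ?_⟩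
  rw [show (B₁ * B₂)ᵀ * G * (B₁ * B₂) = B₂ᵀ * G₁ * B₂ by rw [hG₁, transpose_mul]; simp only [Matrix.mul_assoc]]
  have hc : ∀ l, (B₂ᵀ * G₁) i.succ l = G₁ i.succ l - G₁ i.succ 0 / G₁ 0 0 * G₁ 0 l := fun l => by
    simp [hB₂, Matrix.mul_apply, vecMulVec_apply, Pi.single_apply, Fin.succ_ne_zero, add_mul, Finset.sum_add_distrib,
      Matrix.one_apply, Finset.sum_ite_eq, Finset.sum_ite_eq']
    ring
  rw [Matrix.mul_apply, Finset.sum_eq_single 0]
  · rw [hc, div_mul_cancel₀ _ h00, sub_self, zero_mul]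
  · intro l _ hl
    simp [hB₂, vecMulVec_apply, hl]
  · simp

/-- A non-alternating nondegenerate form is congruent to an upper triangular one. -/
theorem exists_tri (h2 : (2 : F) ≠ 0) : ∀ (k : ℕ) (G : Matrix (Fin k) (Fin k) F), G.det ≠ 0 →
    (∃ x, x ⬝ᵥ G *ᵥ x ≠ 0) →
    ∃ B : Matrix (Fin k) (Fin k) F, IsUnit B.det ∧ ∀ i j : Fin k, (j : ℕ) < i → (Bᵀ * G * B) i j = 0 := by
  intro k
  induction k with
  | zero => exact fun _ _ _ => ⟨1, by simp, fun i => i.elim0⟩
  | succ k ih =>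
    intro G hG hx
    have qeq : ∀ (B : Matrix (Fin (k + 1)) (Fin (k + 1)) F) x, x ⬝ᵥ (Bᵀ * G * B) *ᵥ x = (B *ᵥ x) ⬝ᵥ G *ᵥ (B *ᵥ x) :=
      fun B x => form_congr B G x x
    obtain ⟨B, hB, hcol, hsub⟩ : ∃ B : Matrix (Fin (k + 1)) (Fin (k + 1)) F, IsUnit B.det ∧
        (∀ i : Fin k, (Bᵀ * G * B) i.succ 0 = 0) ∧
        (k = 0 ∨ ∃ y, y ⬝ᵥ ((Bᵀ * G * B).submatrix Fin.succ Fin.succ) *ᵥ y ≠ 0) := by
      obtain ⟨x, hx⟩ := hx
      obtain ⟨B, hB, hBx, hcol⟩ := exists_split hx
      by_cases hn : k = 0 ∨ ∃ y, y ⬝ᵥ ((Bᵀ * G * B).submatrix Fin.succ Fin.succ) *ᵥ y ≠ 0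
      · exact ⟨B, hB, hcol, hn⟩
      push Not at hn
      obtain ⟨hk0, halt⟩ := hn
      obtain ⟨G', hG'⟩ : ∃ G', G' = Bᵀ * G * B := ⟨_, rfl⟩
      rw [← hG'] at hcol halt
      obtain ⟨H, hH⟩ : ∃ H : Matrix (Fin k) (Fin k) F, H = G'.submatrix Fin.succ Fin.succ := ⟨_, rfl⟩
      rw [← hH] at halt
      obtain ⟨l, hl⟩ : ∃ l : Fin k → F, l = fun i => G' 0 i.succ := ⟨_, rfl⟩
      have hq0 : G' 0 0 ≠ 0 := by
        have := qeq B (Pi.single 0 1)
        rw [hBx, ← hG'] at this
        simp at this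
        rw [this]; exact hx
      have hdet : G'.det = G' 0 0 * H.det := by
        rw [det_succ_column_zero, Finset.sum_eq_single (0 : Fin (k + 1))]
        · simp [hH, Fin.succAbove_zero]
        · intro i _ hi
          obtain ⟨i, rfl⟩ := Fin.exists_succ_eq.2 hi
          simp [hcol i]
        · simp
      have hHdet : H.det ≠ 0 := fun h => by
        rw [h, mul_zero, hG', det_mul, det_mul, det_transpose] at hdet
        exact mul_ne_zero (mul_ne_zero hB.ne_zero hG) hB.ne_zero hdet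
      have hk2 : 2 ≤ k := by
        by_contra hk
        obtain rfl : k = 1 := by omega
        have := halt (Pi.single 0 1)
        simp at this
        exact hHdet (by rw [det_fin_one]; exact this)
      have hform : ∀ (a : F) (y : Fin k → F), G' *ᵥ Fin.cons a y = Fin.cons (G' 0 0 * a + l ⬝ᵥ y) (H *ᵥ y) := by
        intro a y
        funext i
        refine Fin.cases ?_ (fun i => ?_) i
        · simp [mulVec, dotProduct, Fin.sum_univ_succ, hl]
        · simp [mulVec, dotProduct, Fin.sum_univ_succ, hH, hcol i]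
      have hdot : ∀ (a b : F) (y z : Fin k → F), Fin.cons a y ⬝ᵥ (Fin.cons b z : Fin (k + 1) → F) = a * b + y ⬝ᵥ z :=
        fun a b y z => by simp [dotProduct, Fin.sum_univ_succ]
      obtain ⟨h₀, hh₀, hlh₀⟩ : ∃ h₀ : Fin k → F, h₀ ≠ 0 ∧ l ⬝ᵥ h₀ = 0 := by
        let φ : (Fin k → F) →ₗ[F] F := (dotProductBilin F F l)
        have hk' := φ.finrank_range_add_finrank_ker
        have hr : Module.finrank F (LinearMap.range φ) ≤ 1 := by
          simpa using Submodule.finrank_le (LinearMap.range φ)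
        rw [Module.finrank_fin_fun] at hk'
        obtain ⟨h₀, hm, hne⟩ := Submodule.exists_mem_ne_zero_of_ne_bot
          (p := LinearMap.ker φ) (fun e => by rw [e, finrank_bot] at hk'; omega)
        exact ⟨h₀, hne, LinearMap.mem_ker.1 hm⟩
      obtain ⟨h, hh, hlh, hne⟩ : ∃ h : Fin k → F, h ≠ 0 ∧ l ⬝ᵥ h = 0 ∧ H *ᵥ h ≠ l := by
        by_cases he : H *ᵥ h₀ = l
        · refine ⟨(2 : F) • h₀, smul_ne_zero h2 hh₀, by rw [dotProduct_smul, hlh₀, smul_zero], fun e => ?_⟩
          rw [mulVec_smul, he, two_smul] at e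
          have hl0 : l = 0 := add_left_cancel (e.trans (add_zero l).symm)
          rw [hl0] at he
          exact hHdet (Matrix.exists_mulVec_eq_zero_iff.1 ⟨h₀, hh₀, he⟩)
        · exact ⟨h₀, hh₀, hlh₀, he⟩
      have hβ : H *ᵥ h ≠ 0 := fun e => hHdet (Matrix.exists_mulVec_eq_zero_iff.1 ⟨h, hh, e⟩)
      obtain ⟨p, hp1, hp2⟩ : ∃ p : Fin k → F, p ⬝ᵥ H *ᵥ h ≠ 0 ∧ p ⬝ᵥ (H *ᵥ h - l) ≠ 0 := by
        obtain ⟨i, hi⟩ := Function.ne_iff.1 hβ
        obtain ⟨j, hj⟩ := Function.ne_iff.1 (sub_ne_zero.2 hne)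
        simp only [Pi.zero_apply] at hi hj
        by_cases hij : (H *ᵥ h - l) i ≠ 0
        · exact ⟨Pi.single i 1, by simpa using hi, by simpa using hij⟩
        by_cases hji : (H *ᵥ h) j ≠ 0
        · exact ⟨Pi.single j 1, by simpa using hji, by simpa using hj⟩
        push Not at hij hji
        refine ⟨Pi.single i 1 + Pi.single j 1, ?_, ?_⟩
        · rw [add_dotProduct, single_dotProduct, single_dotProduct, one_mul, one_mul, hji, add_zero]; exact hi
        · rw [add_dotProduct, single_dotProduct, single_dotProduct, one_mul, one_mul, hij, zero_add]; exact hj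
      obtain ⟨v, hvdef⟩ : ∃ v : Fin (k + 1) → F, v = Fin.cons 1 h := ⟨_, rfl⟩
      obtain ⟨t, ht⟩ : ∃ t : F, t = -(p ⬝ᵥ H *ᵥ h) / G' 0 0 := ⟨_, rfl⟩
      obtain ⟨w, hwdef⟩ : ∃ w : Fin (k + 1) → F, w = Fin.cons t p := ⟨_, rfl⟩
      have hqv : v ⬝ᵥ G' *ᵥ v = G' 0 0 := by
        rw [hvdef, hform, hdot, hlh, halt h]; ring
      have hwv : w ⬝ᵥ G' *ᵥ v = 0 := by
        rw [hwdef, hvdef, hform, hdot, hlh, ht]; field_simp; ring
      have hqw : w ⬝ᵥ G' *ᵥ w ≠ 0 := by
        rw [hwdef, hform, hdot, halt p, add_zero, ht]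
        refine mul_ne_zero (div_ne_zero (neg_ne_zero.2 hp1) hq0) ?_
        rw [show G' 0 0 * (-(p ⬝ᵥ H *ᵥ h) / G' 0 0) + l ⬝ᵥ p = -(p ⬝ᵥ (H *ᵥ h - l)) by
          rw [dotProduct_sub, dotProduct_comm l p]; field_simp; ring]
        exact neg_ne_zero.2 hp2
      obtain ⟨B', hB', hB'v, hcol'⟩ := exists_split (G := G') (v := v) (by rw [hqv]; exact hq0)
      refine ⟨B * B', by rw [det_mul]; exact hB.mul hB', ?_⟩
      have e : (B * B')ᵀ * G * (B * B') = B'ᵀ * G' * B' := by
        rw [hG', transpose_mul]; simp only [Matrix.mul_assoc]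
      rw [e]
      refine ⟨hcol', Or.inr ?_⟩
      obtain ⟨y, hy⟩ : ∃ y, B' *ᵥ y = w := ⟨B'⁻¹ *ᵥ w, by rw [mulVec_mulVec, mul_nonsing_inv _ hB', one_mulVec]⟩
      obtain ⟨K, hK⟩ : ∃ K, K = B'ᵀ * G' * B' := ⟨_, rfl⟩
      rw [← hK] at hcol' ⊢
      have hbil : ∀ a b, a ⬝ᵥ K *ᵥ b = (B' *ᵥ a) ⬝ᵥ G' *ᵥ (B' *ᵥ b) := fun a b => hK ▸ form_congr B' G' a b
      have hK00 : K 0 0 ≠ 0 := by
        have e0 := hbil (Pi.single 0 1) (Pi.single 0 1)
        rw [hB'v, hqv] at e0
        simp at e0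
        rw [e0]; exact hq0
      have hy0 : y 0 = 0 := by
        have e0 := hbil y (Pi.single 0 1)
        rw [hB'v, hy, hwv] at e0
        simp [dotProduct, Fin.sum_univ_succ, hcol'] at e0
        exact e0.resolve_right hK00
      refine ⟨fun i => y i.succ, ?_⟩
      have e0 := hbil y y
      rw [hy] at e0
      rw [← e0] at hqw
      simpa [dotProduct, mulVec, Fin.sum_univ_succ, hy0] using hqw
    rcases hsub with rfl | hsub
    · exact ⟨B, hB, fun i j h => by omega⟩
    obtain ⟨G', hG'⟩ : ∃ G', G' = Bᵀ * G * B := ⟨_, rfl⟩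
    rw [← hG'] at hcol hsub
    obtain ⟨B₂, hB₂, hB₂t⟩ := ih (G'.submatrix Fin.succ Fin.succ) (fun h => by
      have hd : G'.det = 0 := by
        rw [det_succ_column_zero, Finset.sum_eq_single (0 : Fin (k + 1))]
        · simp [h, Fin.succAbove_zero]
        · intro i _ hi
          obtain ⟨i, rfl⟩ := Fin.exists_succ_eq.2 hi
          simp [hcol i]
        · simp
      rw [hG', det_mul, det_mul, det_transpose] at hd
      exact mul_ne_zero (mul_ne_zero hB.ne_zero hG) hB.ne_zero hd) hsub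
    let C : Matrix (Fin (k + 1)) (Fin (k + 1)) F :=
      Matrix.of (Fin.cons (Fin.cons 1 0) fun i => Fin.cons 0 (B₂ i))
    have hC : IsUnit C.det := by
      have : C.det = B₂.det := by
        rw [det_succ_row_zero, Fin.sum_univ_succ]
        simp [C, Fin.succAbove_zero]
        rfl
      rw [this]; exact hB₂
    refine ⟨B * C, by rw [det_mul]; exact hB.mul hC, fun i j hij => ?_⟩
    rw [show (B * C)ᵀ * G * (B * C) = Cᵀ * G' * C by rw [hG', transpose_mul]; simp only [Matrix.mul_assoc]]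
    induction i using Fin.cases with
    | zero => simp at hij
    | succ i =>
      induction j using Fin.cases with
      | zero => simp [Matrix.mul_apply, Fin.sum_univ_succ, C, hcol]
      | succ j =>
        have := hB₂t i j (by simpa using hij)
        rw [← this]
        simp [Matrix.mul_apply, Fin.sum_univ_succ, C]

/-- A symplectic basis in antidiagonal order. -/
theorem exists_anti (G : Matrix (Fin k) (Fin k) F) (hG : G.det ≠ 0) (halt : ∀ x, x ⬝ᵥ G *ᵥ x = 0) :
    ∃ (m : ℕ) (B : Matrix (Fin k) (Fin k) F), k = 2 * m ∧ IsUnit B.det ∧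
      (∀ i j : Fin k, ((i : ℕ) + j + 1 ≠ k → (Bᵀ * G * B) i j = 0) ∧ ((i : ℕ) + j + 1 = k → (Bᵀ * G * B) i j ≠ 0)) ∧
      ∀ i j : Fin k, (Bᵀ * G * B) j i = -(Bᵀ * G * B) i j := by
  obtain ⟨Bf, hBf⟩ : ∃ Bf : LinearMap.BilinForm F (Fin k → F), Bf = Matrix.toBilin' G := ⟨_, rfl⟩
  have hap : ∀ x y, Bf x y = x ⬝ᵥ G *ᵥ y := fun x y => by rw [hBf, Matrix.toBilin'_apply']
  obtain ⟨m, hm, e, he⟩ := exists_symp_equiv Bf (fun x => (hap x x).trans (halt x)) (fun v hv => by
    by_contra hv0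
    refine hG ?_
    rw [← det_transpose]
    refine Matrix.exists_mulVec_eq_zero_iff.1 ⟨v, hv0, funext fun j => ?_⟩
    have := hv (Pi.single j 1)
    rw [hap] at this
    simpa [mulVec, dotProduct, mul_comm, Pi.single_apply] using this)
  rw [Module.finrank_fin_fun] at hm
  subst hm
  let idx : Fin (2 * m) → Fin m ⊕ Fin m := fun i =>
    if h : (i : ℕ) < m then .inl ⟨i, h⟩ else .inr ⟨2 * m - 1 - i, by omega⟩
  have hidx : Function.Injective idx := fun i j h => by
    simp only [idx] at h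
    split_ifs at h with hi hj hj
    all_goals simp [Fin.ext_iff] at h
    all_goals exact Fin.ext (by omega)
  obtain ⟨B, hB⟩ : ∃ B : Matrix (Fin (2 * m)) (Fin (2 * m)) F, B = Matrix.of fun i j => e (Pi.single (idx j) 1) i :=
    ⟨_, rfl⟩
  have hG' : ∀ i j, (Bᵀ * G * B) i j = Cfsg.sympForm m F (Pi.single (idx i) 1) (Pi.single (idx j) 1) := by
    intro i j
    rw [← he, hap, Matrix.mul_assoc, hB]
    simp [Matrix.mul_apply, mulVec, dotProduct]
  have hBu : IsUnit B.det := by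
    rw [isUnit_iff_ne_zero]
    intro h0
    obtain ⟨v, hv0, hv⟩ := Matrix.exists_mulVec_eq_zero_iff.2 h0
    refine hv0 (funext fun j => ?_)
    have e1 : e (∑ i, v i • Pi.single (idx i) 1) = 0 := by
      rw [map_sum, ← hv, hB]
      funext l
      simp [mulVec, dotProduct, mul_comm]
    have e2 := congrFun (e.map_eq_zero_iff.1 e1) (idx j)
    rw [Finset.sum_apply, Finset.sum_eq_single j] at e2
    · simpa using e2
    · intro l _ hl; simp [Ne.symm (hidx.ne hl)]
    · simp
  have hval : ∀ i j : Fin (2 * m), (Bᵀ * G * B) i j =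
      if (i : ℕ) + j + 1 = 2 * m then (if (i : ℕ) < m then -1 else 1) else 0 := fun i j => by
    rw [hG', sympForm_eq]
    by_cases hi : (i : ℕ) < m <;> by_cases hj : (j : ℕ) < m
    · simp [idx, hi, hj, Pi.single_apply]
      intro h; omega
    · by_cases h : (i : ℕ) + j + 1 = 2 * m
      · rw [if_pos h, if_pos hi, Finset.sum_eq_single ⟨i, hi⟩]
        · simp [idx, hi, hj, Pi.single_apply, Fin.ext_iff]
          omega
        · intro l _ hl; simp [idx, hi, hj, Pi.single_apply, hl]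
        · simp
      · rw [if_neg h]
        refine Finset.sum_eq_zero fun l _ => ?_
        simp [idx, hi, hj, Pi.single_apply, Fin.ext_iff]
        intros; omega
    · by_cases h : (i : ℕ) + j + 1 = 2 * m
      · rw [if_pos h, if_neg hi, Finset.sum_eq_single ⟨j, hj⟩]
        · simp [idx, hi, hj, Pi.single_apply, Fin.ext_iff]
          omega
        · intro l _ hl; simp [idx, hi, hj, Pi.single_apply, hl]
        · simp
      · rw [if_neg h]
        refine Finset.sum_eq_zero fun l _ => ?_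
        simp [idx, hi, hj, Pi.single_apply, Fin.ext_iff]
        intros; omega
    · simp [idx, hi, hj, Pi.single_apply]
      intro h; omega
  refine ⟨m, B, rfl, hBu, fun i j => ⟨fun h => ?_, fun h => ?_⟩, fun i j => ?_⟩
  · rw [hval, if_neg h]
  · rw [hval, if_pos h]; split_ifs <;> simp
  · simp only [hval]
    split_ifs <;> first | omega | simp

/-- Some basis change leads to a good shape. -/
theorem exists_good (h2 : (2 : F) ≠ 0) (hk : 0 < k) {G : Matrix (Fin k) (Fin k) F} (hG : G.det ≠ 0) :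
    ∃ B : Matrix (Fin k) (Fin k) F, IsUnit B.det ∧ Good (Bᵀ * G * B) := by
  by_cases hx : ∃ x, x ⬝ᵥ G *ᵥ x ≠ 0
  · obtain ⟨B, hB, hBt⟩ := exists_tri h2 k G hG hx
    refine ⟨B, hB, good_tri h2 hk hBt fun i hi => ?_⟩
    have : (Bᵀ * G * B).det = 0 := by
      rw [det_of_upperTriangular fun i j h => hBt i j h]
      exact Finset.prod_eq_zero (Finset.mem_univ i) hi
    rw [det_mul, det_mul, det_transpose] at this
    exact mul_ne_zero (mul_ne_zero hB.ne_zero hG) hB.ne_zero this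
  · push Not at hx
    obtain ⟨m, B, hm, hB, hA, hS⟩ := exists_anti G hG hx
    exact ⟨B, hB, good_anti h2 (by omega) hm hA hS⟩

end CfsgLib.OmegaComm
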