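import Cfsg.Agent.Lib.Classical.SUComm.Factor
import Cfsg.Agent.Lib.Classical.SpinorPlus
import Cfsg.Agent.Lib.KnownSimple.Spectra.OddConstruct

/-!
# The odd orthogonal space in a hyperbolic frame

`Idx α = α ⊕ (Unit ⊕ α)` indexes two dual totally singular families and one vector of norm one. `Om M` says that
the matrix `M` lies in the commutator subgroup of the isometry group.
-/

set_option autoImplicit false
set_option linter.unusedSectionVars false

namespace CfsgLib.OmegaComm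

open Matrix CfsgLib.SUComm CfsgLib.Classical CfsgLib.Classical.Spin

/-- The coordinates. -/
abbrev Idx (α : Type) : Type := α ⊕ (Unit ⊕ α)

/-- Matrices on the space. -/
abbrev Mat (F : Type*) (α : Type) := Matrix (Idx α) (Idx α) F

variable {F : Type*} [Field F] {α : Type} [Fintype α] [DecidableEq α]

/-- The Gram matrix. -/
def jm (F : Type*) [Field F] (α : Type) [DecidableEq α] : Mat F α := gram α Unit

theorem jm_eq : jm F α = blk 0 0 1 0 1 0 1 0 0 := rfl

theorem ct_id {a b : Type*} (M : Matrix a b F) : ct (RingHom.id F) M = Mᵀ := by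
  ext i j; rfl

theorem transpose_blk {β : Type} (a : Matrix α α F) (b : Matrix α β F) (c : Matrix α α F) (d : Matrix β α F)
    (e : Matrix β β F) (f : Matrix β α F) (g : Matrix α α F) (h : Matrix α β F) (i : Matrix α α F) :
    (blk a b c d e f g h i)ᵀ = blk aᵀ dᵀ gᵀ bᵀ eᵀ hᵀ cᵀ fᵀ iᵀ := by
  rw [← ct_id, ct_blk]
  simp only [ct_id]

@[simp] theorem jm_mul_jm : jm F α * jm F α = 1 := gram_mul_gram

@[simp] theorem jm_transpose : (jm F α)ᵀ = jm F α := by
  rw [← ct_id]; exact ct_gram (RingHom.id F)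

/-- `M` preserves the form. -/
def Iso (M : Mat F α) : Prop := Mᵀ * jm F α * M = jm F α

theorem iso_iff_gun {M : Mat F α} : Iso M ↔ GUn (RingHom.id F) M := by
  rw [Iso, GUn, ct_id]; rfl

/-- The adjoint, the inverse of an isometry. -/
def ji (M : Mat F α) : Mat F α := jm F α * Mᵀ * jm F α

@[simp] theorem ji_one : ji (1 : Mat F α) = 1 := by simp [ji]

theorem ji_mul (A B : Mat F α) : ji (A * B) = ji B * ji A := by
  simp only [ji, transpose_mul]
  calc jm F α * (Bᵀ * Aᵀ) * jm F α = jm F α * Bᵀ * (jm F α * jm F α) * Aᵀ * jm F α := by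
        rw [jm_mul_jm, Matrix.mul_one]; simp only [Matrix.mul_assoc]
    _ = _ := by simp only [Matrix.mul_assoc]

theorem ji_ji (A : Mat F α) : ji (ji A) = A := by
  simp only [ji, transpose_mul, transpose_transpose, jm_transpose]
  calc jm F α * (jm F α * (A * jm F α)) * jm F α = (jm F α * jm F α) * A * (jm F α * jm F α) := by
        simp only [Matrix.mul_assoc]
    _ = A := by simp

theorem ji_blk (a : Matrix α α F) (b : Matrix α Unit F) (c : Matrix α α F) (d : Matrix Unit α F)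
    (e : Matrix Unit Unit F) (f : Matrix Unit α F) (g : Matrix α α F) (h : Matrix α Unit F) (i : Matrix α α F) :
    ji (blk a b c d e f g h i) = blk iᵀ fᵀ cᵀ hᵀ eᵀ bᵀ gᵀ dᵀ aᵀ := by
  simp [ji, transpose_blk, jm_eq, blk_mul]

theorem Iso.ji_mul' {M : Mat F α} (h : Iso M) : ji M * M = 1 := by
  rw [ji]
  calc jm F α * Mᵀ * jm F α * M = jm F α * (Mᵀ * jm F α * M) := by simp only [Matrix.mul_assoc]
    _ = 1 := by rw [h, jm_mul_jm]

theorem Iso.mul_ji {M : Mat F α} (h : Iso M) : M * ji M = 1 := mul_eq_one_comm.1 h.ji_mul'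

theorem Iso.mul {M N : Mat F α} (hM : Iso M) (hN : Iso N) : Iso (M * N) :=
  iso_iff_gun.2 (GUn.mul _ (iso_iff_gun.1 hM) (iso_iff_gun.1 hN))

theorem iso_one : Iso (1 : Mat F α) := by simp [Iso]

theorem Iso.ji {M : Mat F α} (hM : Iso M) : Iso (ji M) := by
  have h := GUn.inverse (RingHom.id F) (fun _ => rfl) (iso_iff_gun.1 hM)
  rw [ct_id] at h
  exact iso_iff_gun.2 h

theorem iso_jm : Iso (jm F α) := by simp [Iso]

/-- The quadratic form with Gram matrix `jm`. -/
noncomputable def qG (F : Type*) [Field F] (α : Type) [Fintype α] [DecidableEq α] :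
    QuadraticForm F (Idx α → F) :=
  LinearMap.BilinMap.toQuadraticMap (Matrix.toLinearMap₂' F (jm F α))

theorem qG_apply (x : Idx α → F) : qG F α x = x ⬝ᵥ jm F α *ᵥ x :=
  Matrix.toLinearMap₂'_apply' _ _ _

theorem polar_qG (x y : Idx α → F) : QuadraticMap.polar (qG F α) x y = 2 * (x ⬝ᵥ jm F α *ᵥ y) := by
  rw [qG, LinearMap.BilinMap.polar_toQuadraticMap, Matrix.toLinearMap₂'_apply', Matrix.toLinearMap₂'_apply']
  have : y ⬝ᵥ jm F α *ᵥ x = x ⬝ᵥ jm F α *ᵥ y := by
    rw [dotProduct_mulVec, ← mulVec_transpose, jm_transpose, dotProduct_comm]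
  rw [this, two_mul]

theorem qG_expand (x : Idx α → F) :
    qG F α x = (∑ i, x (.inl i) * x (.inr (.inr i))) + x (.inr (.inl ())) * x (.inr (.inl ())) +
      ∑ i, x (.inr (.inr i)) * x (.inl i) := by
  rw [qG_apply]
  simp [dotProduct, mulVec, Fintype.sum_sum_type, jm_eq, blk, Matrix.one_apply, add_assoc]

theorem polarNondeg_qG (h2 : (2 : F) ≠ 0) : PolarNondeg (qG F α) := by
  intro x hx
  have h0 : x ᵥ* jm F α = 0 := funext fun k => by
    have := hx (Pi.single k 1)
    rw [polar_qG, dotProduct_mulVec, dotProduct_single, mul_one] at this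
    exact (mul_eq_zero.1 this).resolve_left h2
  calc x = x ᵥ* (jm F α * jm F α) := by rw [jm_mul_jm, vecMul_one]
    _ = 0 := by rw [← vecMul_vecMul, h0, zero_vecMul]

/-- The matrix of an isometry. -/
noncomputable def toMat : qAut (qG F α) →* Mat F α where
  toFun g := LinearMap.toMatrix' g.1.toLinearMap
  map_one' := LinearMap.toMatrix'_id
  map_mul' g h := LinearMap.toMatrix'_comp _ _

theorem toMat_mulVec (g : qAut (qG F α)) (x : Idx α → F) : toMat g *ᵥ x = g.1 x :=
  LinearMap.toMatrix'_mulVec g.1.toLinearMap x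

theorem toMat_injective : Function.Injective (toMat (F := F) (α := α)) := fun g h e =>
  qAut_ext fun x => by rw [← toMat_mulVec, e, toMat_mulVec]

theorem iso_toMat (h2 : (2 : F) ≠ 0) (g : qAut (qG F α)) : Iso (toMat g) := by
  refine Matrix.ext fun i j => ?_
  have h := qAut_polar g (Pi.single i 1) (Pi.single j 1)
  rw [polar_qG, polar_qG, ← toMat_mulVec, ← toMat_mulVec] at h
  have h' := mul_left_cancel₀ h2 h
  rw [mulVec_mulVec, dotProduct_mulVec, ← vecMul_transpose, vecMul_vecMul, ← dotProduct_mulVec] at h'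
  rw [← Matrix.mul_assoc] at h'
  simpa using h'

theorem exists_toMat {M : Mat F α} (hM : Iso M) : ∃ g : qAut (qG F α), toMat g = M := by
  let e : (Idx α → F) ≃ₗ[F] (Idx α → F) := LinearEquiv.ofLinearMap (Matrix.mulVecLin M) (Matrix.mulVecLin (ji M))
    (by rw [← Matrix.mulVecLin_mul, hM.mul_ji, Matrix.mulVecLin_one])
    (by rw [← Matrix.mulVecLin_mul, hM.ji_mul', Matrix.mulVecLin_one])
  refine ⟨⟨e, fun v => ?_⟩, ?_⟩
  · show qG F α (M *ᵥ v) = _
    rw [qG_apply, qG_apply, mulVec_mulVec, dotProduct_mulVec, ← vecMul_transpose, vecMul_vecMul, ← dotProduct_mulVec,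
      ← Matrix.mul_assoc, hM]
  · refine Matrix.ext_of_mulVec_single fun k => ?_
    rw [toMat_mulVec]
    rfl

/-- `M` lies in the commutator subgroup of the isometry group. -/
def Om (M : Mat F α) : Prop := ∃ g, g ∈ commutator (qAut (qG F α)) ∧ toMat g = M

theorem om_one : Om (1 : Mat F α) := ⟨1, one_mem _, map_one _⟩

theorem Om.mul {M N : Mat F α} : Om M → Om N → Om (M * N) := by
  rintro ⟨g, hg, rfl⟩ ⟨h, hh, rfl⟩
  exact ⟨g * h, mul_mem hg hh, map_mul _ _ _⟩

theorem Om.iso (h2 : (2 : F) ≠ 0) {M : Mat F α} : Om M → Iso M := by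
  rintro ⟨g, -, rfl⟩
  exact iso_toMat h2 g

theorem toMat_inv (h2 : (2 : F) ≠ 0) (g : qAut (qG F α)) : toMat g⁻¹ = ji (toMat g) := by
  have h : toMat g⁻¹ * toMat g = 1 := by rw [← map_mul, inv_mul_cancel, map_one]
  calc toMat g⁻¹ = toMat g⁻¹ * (toMat g * ji (toMat g)) := by rw [(iso_toMat h2 g).mul_ji, Matrix.mul_one]
    _ = ji (toMat g) := by rw [← Matrix.mul_assoc, h, Matrix.one_mul]

theorem Om.ji (h2 : (2 : F) ≠ 0) {M : Mat F α} : Om M → Om (ji M) := by
  rintro ⟨g, hg, rfl⟩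
  exact ⟨g⁻¹, inv_mem hg, toMat_inv h2 g⟩

theorem Om.conj (h2 : (2 : F) ≠ 0) {M P : Mat F α} (hP : Iso P) : Om M → Om (P * M * OmegaComm.ji P) := by
  rintro ⟨g, hg, rfl⟩
  obtain ⟨p, rfl⟩ := exists_toMat hP
  refine ⟨p * g * p⁻¹, Subgroup.Normal.conj_mem inferInstance g hg p, ?_⟩
  rw [map_mul, map_mul, toMat_inv h2]

theorem Om.det (h2 : (2 : F) ≠ 0) {M : Mat F α} : Om M → M.det = 1 := by
  rintro ⟨g, hg, rfl⟩
  have hu : ∀ g : qAut (qG F α), IsUnit (toMat g).det := fun g =>
    IsUnit.of_mul_eq_one _ (by rw [← det_mul, (iso_toMat h2 g).mul_ji, det_one])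
  let f : qAut (qG F α) →* Fˣ := MonoidHom.mk' (fun g => (hu g).unit) fun g h => by
    apply Units.ext
    simp [det_mul]
  exact congrArg Units.val (MonoidHom.mem_ker.1 (Abelianization.commutator_subset_ker f hg))

variable [Fintype F]

theorem card_ne_two (h2 : (2 : F) ≠ 0) : Fintype.card F ≠ 2 := fun h => by
  have := odd_card_of_two_ne_zero h2
  rw [h] at this
  exact absurd this (by decide)

/-- Squares lie in the commutator subgroup. -/
theorem om_mul_self (h2 : (2 : F) ≠ 0) {M : Mat F α} (hM : Iso M) : Om (M * M) := by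
  obtain ⟨g, rfl⟩ := exists_toMat hM
  have hQ := polarNondeg_qG (F := F) (α := α) h2
  have hex : Fintype.card F ≠ 2 ∨ Module.finrank F (Idx α → F) ≠ 4 := Or.inl (card_ne_two h2)
  obtain ⟨θ, -, hiff⟩ := exists_spin (qG F α) hQ hex
  obtain ⟨D, hD, -⟩ := exists_parity_hom (qG F α) hQ (reflGroup_eq_top _ hQ hex)
  refine ⟨g * g, (hiff _).2 ⟨?_, by rw [map_mul, Int.units_mul_self]⟩, map_mul _ _ _⟩
  have h1 : D (g * g) = 1 := by
    rw [map_mul]
    exact (by decide : ∀ x : Multiplicative (ZMod 2), x * x = 1) _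
  rw [hD, ← ofAdd_zero, Multiplicative.ofAdd.apply_eq_iff_eq, ZMod.natCast_eq_zero_iff_even] at h1
  exact h1

/-- The Levi element. -/
noncomputable def lev (A : Matrix α α F) : Mat F α := blk A 0 0 0 1 0 0 0 (A⁻¹)ᵀ

omit [Fintype F] in
theorem lev_mul (A B : Matrix α α F) : lev A * lev B = lev (A * B) := by
  simp [lev, blk_mul, Matrix.mul_inv_rev]

omit [Fintype F] in
@[simp] theorem lev_one : lev (1 : Matrix α α F) = 1 := by
  simp [lev, blk_one]

omit [Fintype F] in
theorem ji_lev (A : Matrix α α F) : ji (lev A) = blk A⁻¹ 0 0 0 1 0 0 0 Aᵀ := by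
  simp [lev, ji_blk]

omit [Fintype F] in
theorem iso_lev {A : Matrix α α F} (hA : IsUnit A.det) : Iso (lev A) := by
  have h : Aᵀ * A⁻¹ᵀ = 1 := by rw [← transpose_mul, nonsing_inv_mul _ hA, transpose_one]
  have h' : A⁻¹ * A = 1 := nonsing_inv_mul _ hA
  simp [Iso, lev, transpose_blk, jm_eq, blk_mul, blk_inj, h, h']

omit [Fintype F] in
theorem ji_lev_eq {A : Matrix α α F} (hA : IsUnit A.det) : ji (lev A) = lev A⁻¹ := by
  rw [ji_lev, lev, nonsing_inv_nonsing_inv _ hA]

/-- A hyperbolic space of plus type and a line. -/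
def split (h2 : (2 : F) ≠ 0) {m : ℕ} (e : Fin m ≃ α) :
    ((Fin m ⊕ Fin m → F) × (Unit → F)) ≃ₗ[F] (Idx α → F) where
  toFun p := Sum.elim (fun i => p.1 (.inl (e.symm i))) (Sum.elim p.2 fun i => p.1 (.inr (e.symm i)) / 2)
  invFun v := (Sum.elim (fun k => v (.inl (e k))) fun k => 2 * v (.inr (.inr (e k))), fun u => v (.inr (.inl u)))
  map_add' p q := funext fun i => by rcases i with i | i | i <;> simp [add_div]
  map_smul' c p := funext fun i => by rcases i with i | i | i <;> simp [mul_div_assoc]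
  left_inv p := Prod.ext (funext fun k => by rcases k with k | k <;> simp [mul_div_cancel₀, h2]) rfl
  right_inv v := funext fun i => by rcases i with i | i | i <;> simp [h2]

/-- The criterion for Levi elements. -/
theorem om_lev_iff (h2 : (2 : F) ≠ 0) {A : Matrix α α F} (hA : IsUnit A.det) : Om (lev A) ↔ IsSquare A.det := by
  classical
  obtain ⟨e⟩ : Nonempty (Fin (Fintype.card α) ≃ α) := ⟨(Fintype.equivFin α).symm⟩
  obtain ⟨m, hm⟩ : ∃ m, m = Fintype.card α := ⟨_, rfl⟩
  rw [← hm] at e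
  have hQ := polarNondeg_qG (F := F) (α := α) h2
  have hex : Fintype.card F ≠ 2 ∨ Module.finrank F (Idx α → F) ≠ 4 := Or.inl (card_ne_two h2)
  have hex' : Fintype.card F ≠ 2 ∨ Module.finrank F (Fin m ⊕ Fin m → F) ≠ 4 := Or.inl (card_ne_two h2)
  obtain ⟨θ, hθ, hiff⟩ := exists_spin (qG F α) hQ hex
  obtain ⟨D, hD, hD1⟩ := exists_parity_hom (qG F α) hQ (reflGroup_eq_top _ hQ hex)
  obtain ⟨D', hD', hD'1⟩ := exists_parity_hom (qPlus m F) (polarNondeg_qPlus m)
    (reflGroup_eq_top _ (polarNondeg_qPlus m) hex')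
  let E := split (F := F) h2 e
  have hE : ∀ p, qG F α (E p) = ((qPlus m F).prod (qLine F)) p := fun p => by
    rw [qG_expand, QuadraticMap.prod_apply, qPlus_eq_dot, qLine_apply]
    simp only [E, split, LinearEquiv.coe_mk, LinearMap.coe_mk, AddHom.coe_mk, Sum.elim_inl, Sum.elim_inr]
    rw [dotProduct, ← e.sum_comp, ← e.sum_comp]
    simp only [Equiv.symm_apply_apply, Function.comp_apply]
    have : ∀ i : Fin m, p.1 (.inl i) * (p.1 (.inr i) / 2) + p.1 (.inr i) / 2 * p.1 (.inl i) =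
        p.1 (.inl i) * p.1 (.inr i) := fun i => by field_simp; ring
    rw [← Finset.sum_congr rfl fun i _ => this i, Finset.sum_add_distrib]
    ring
  let ι : qAut (qPlus m F) →* qAut (qG F α) := (qAutCongr E hE).toMonoidHom.comp
    ((CfsgLib.Spectra.qAutProd (qPlus m F) (qLine F)).comp (MonoidHom.inl _ _))
  have hι : ∀ g p, (ι g).1 (E p) = E (g.1 p.1, p.2) := fun g p => by
    show E (g.1 (E.symm (E p)).1, (E.symm (E p)).2) = _
    rw [E.symm_apply_apply]
  have hpolar : ∀ p r, QuadraticMap.polar (qG F α) (E p) (E r) =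
      QuadraticMap.polar ((qPlus m F).prod (qLine F)) p r := fun p r => by
    simp only [QuadraticMap.polar, ← map_add, hE]
  have hEv : ∀ v, qG F α (E (v, 0)) = qPlus m F v := fun v => by rw [hE]; simp
  have hrefl : ∀ v (hv : qPlus m F v ≠ 0), ∃ hv' : qG F α (E (v, 0)) ≠ 0, ι (qRefl _ hv) = qRefl _ hv' := by
    intro v hv
    refine ⟨by rwa [hEv], qAut_ext fun z => ?_⟩
    obtain ⟨⟨a, u⟩, rfl⟩ := E.surjective z
    rw [hι, qRefl_apply, qRefl_apply, hpolar, hEv, QuadraticMap.polar_prod]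
    rw [← map_smul, ← map_sub]
    congr 1
    refine Prod.ext ?_ ?_ <;> simp
  have hDι : ∀ g, D (ι g) = D' g := by
    intro g
    obtain ⟨vs, rfl⟩ := exists_refl_list _ (polarNondeg_qPlus m) hex' g
    induction vs with
    | nil => simp
    | cons v vs ih =>
      obtain ⟨hv', e'⟩ := hrefl v.1 v.2
      rw [List.map_cons, List.prod_cons, map_mul, map_mul, map_mul, ih, e', hD1, hD'1]
  let A' : GL (Fin m) F := GeneralLinearGroup.mkOfDetNeZero (A.submatrix e e)
    (by rw [det_submatrix_equiv_self]; exact hA.ne_zero)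
  obtain ⟨g', hg'⟩ := exists_levi A'
  have key : toMat (ι (isoEquiv _ g')) = lev A := by
    refine Matrix.ext_of_mulVec_single fun k => ?_
    obtain ⟨⟨a, u⟩, hk⟩ := E.surjective (Pi.single k 1)
    rw [← hk, toMat_mulVec, hι, isoEquiv_apply, isoApply, hg']
    have hinv : (A' : Matrix (Fin m) (Fin m) F)⁻¹ = A⁻¹.submatrix e e := inv_submatrix_equiv A e e
    funext i
    rw [hinv]
    rcases i with i | i | i
    · simp [E, split, lev, blk, fromBlocks_mulVec, mulVec, dotProduct, Fintype.sum_sum_type, A']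
      rw [← e.sum_comp (fun j => A i j * a (.inl (e.symm j)))]
      simp
    · simp [E, split, lev, blk, fromBlocks_mulVec, mulVec, dotProduct, Fintype.sum_sum_type, Matrix.one_apply]
    · simp [E, split, lev, blk, fromBlocks_mulVec, mulVec, dotProduct, Fintype.sum_sum_type, A']
      rw [← e.sum_comp (fun j => A⁻¹ j i * (a (.inr (e.symm j)) / 2)), Finset.sum_div]
      simp [mul_div_assoc]
  have hθ' : (θ.comp ι) (isoEquiv _ g') = sqSign (A' : Matrix (Fin m) (Fin m) F).det :=
    levi_theta (Or.inl (card_ne_two h2)) (θ.comp ι) (fun v hv => by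
      obtain ⟨hv', e'⟩ := hrefl v hv
      rw [MonoidHom.comp_apply, e', hθ, hEv]) A' g' hg'
  have hdet : (A' : Matrix (Fin m) (Fin m) F).det = A.det := det_submatrix_equiv_self e A
  have hev : Even (qRank (qG F α) (ι (isoEquiv _ g'))) := by
    have h1 := levi_even A' g' hg'
    rw [← ZMod.natCast_eq_zero_iff_even] at h1 ⊢
    have h3 := hDι (isoEquiv _ g')
    rw [hD, hD', Multiplicative.ofAdd.apply_eq_iff_eq] at h3
    rw [h3, h1]
  rw [MonoidHom.comp_apply, hdet] at hθ'
  constructor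
  · rintro ⟨g, hg, e'⟩
    rw [toMat_injective (e'.trans key.symm), hiff, hθ', sqSign_eq_one] at hg
    exact hg.2
  · intro hs
    exact ⟨_, (hiff _).2 ⟨hev, by rw [hθ', sqSign_eq_one]; exact hs⟩, key⟩

end CfsgLib.OmegaComm
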