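import Cfsg.Agent.Lib.Classical.OmegaComm.BigCell
import Cfsg.Agent.Lib.Classical.SUComm.Core
import Cfsg.Agent.Lib.FGS.SLComm.Field

/-!
# Cyclic matrices of determinant one as quotients of two conjugates of a valid matrix
-/

set_option autoImplicit false
set_option linter.unusedSectionVars false

namespace CfsgLib.OmegaComm

open Matrix Polynomial CfsgLib.Classical CfsgLib.FGS.SLComm

variable {F : Type*} [Field F] {α γ : Type} [Fintype α] [DecidableEq α] [Fintype γ] [DecidableEq γ]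

/-- `a` is a quotient of two conjugates of a valid matrix. -/
def Cell (a : Matrix α α F) : Prop :=
  ∃ T X Y : Matrix α α F, Valid T ∧ IsUnit X.det ∧ IsUnit Y.det ∧ a * (Y * T * Y⁻¹) = X * T * X⁻¹

/-- A cell without spinor constraints. -/
def CellFree (a : Matrix α α F) : Prop :=
  ∃ T X Y : Matrix α α F, Valid T ∧ IsUnit X.det ∧ IsUnit Y.det ∧ a * (Y * T * Y⁻¹) = X * T * X⁻¹ ∧ T.det = 1 ∧
    ∀ c : F, c ≠ 0 → ∃ Z : Matrix α α F, Z * T = T * Z ∧ Z.det = c

theorem CellFree.cell {a : Matrix α α F} : CellFree a → Cell a :=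
  fun ⟨T, X, Y, h1, h2, h3, h4, _⟩ => ⟨T, X, Y, h1, h2, h3, h4⟩

/-- A cell gives a commutator up to Levi elements. -/
theorem Cell.exists_al [Fintype F] (h2 : (2 : F) ≠ 0) {M : Mat F α} (hM : Iso M) (hd : M.det = 1)
    (h : Cell M.toBlocks₁₁) : ∃ A x, AL A ∧ AL x ∧ M * (x * A) = A * x := by
  obtain ⟨T, X, Y, hT, hX, hY, e⟩ := h
  obtain ⟨v, w, hv, hw, hz⟩ := exists_pair h2 hM hd hT hX hY e
  refine ⟨_, _, (hv.al.mul h2 (al_lev (hT.conj hX).1)).mul h2 (hv.ji h2).al,
    (hw.al.mul h2 (al_lev ?_)).mul h2 (hv.ji h2).al, hz 1 (by rw [Matrix.one_mul, Matrix.mul_one])⟩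
  rw [Matrix.mul_one, det_mul]
  exact hY.mul (isUnit_nonsing_inv_det _ hX)

theorem CellFree.isC [Fintype F] (h2 : (2 : F) ≠ 0) {M : Mat F α} (hM : Iso M) (hd : M.det = 1)
    (h : CellFree M.toBlocks₁₁) : IsC M := by
  obtain ⟨T, X, Y, hT, hX, hY, e, hT1, hZ⟩ := h
  obtain ⟨v, w, hv, hw, hz⟩ := exists_pair h2 hM hd hT hX hY e
  obtain ⟨Z, hZT, hZd⟩ := hZ (X.det / Y.det) (div_ne_zero hX.ne_zero hY.ne_zero)
  refine ⟨_, _, (hv.mul ((om_lev_iff h2 (hT.conj hX).1).2 ?_)).mul (hv.ji h2),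
    (hw.mul ((om_lev_iff h2 ?_).2 ?_)).mul (hv.ji h2), hz Z hZT⟩
  · rw [det_conj' hX, hT1]; exact IsSquare.one
  · rw [det_mul, det_mul, hZd]
    exact (hY.mul (isUnit_iff_ne_zero.2 (div_ne_zero hX.ne_zero hY.ne_zero))).mul (isUnit_nonsing_inv_det _ hX)
  · rw [det_mul, det_mul, hZd, det_nonsing_inv, Ring.inverse_eq_inv',
      show Y.det * (X.det / Y.det) * X.det⁻¹ = 1 by have := hX.ne_zero; have := hY.ne_zero; field_simp]
    exact IsSquare.one
where
  det_conj' {T X : Matrix α α F} (hX : IsUnit X.det) : (X * T * X⁻¹).det = T.det := by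
    rw [det_mul, det_mul, det_nonsing_inv, mul_comm X.det, mul_assoc, Ring.mul_inverse_cancel _ hX, mul_one]

theorem isUnit_det_sub_scalar (M : Matrix α α F) {c : F} (hc : M.charpoly.eval c ≠ 0) :
    IsUnit (M - c • 1).det := by
  rw [Matrix.eval_charpoly, show scalar α c = c • 1 from (smul_one_eq_diagonal c).symm] at hc
  rw [isUnit_iff_ne_zero, ← neg_sub, det_neg]
  exact mul_ne_zero (pow_ne_zero _ (neg_ne_zero.2 one_ne_zero)) hc

/-- The homomorphism sending the root to a matrix. -/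
noncomputable def rootHom (M : Matrix α α F) (h : F[X]) (hM : aeval M h = 0) : AdjoinRoot h →ₐ[F] Matrix α α F :=
  Ideal.Quotient.liftₐ (Ideal.span {h}) (aeval M) fun g hg => by
    obtain ⟨y, rfl⟩ := Ideal.mem_span_singleton.1 hg
    rw [map_mul, hM, zero_mul]

theorem rootHom_root (M : Matrix α α F) (h : F[X]) (hM : aeval M h = 0) : rootHom M h hM (AdjoinRoot.root h) = M :=
  aeval_X M

/-- No invariant bilinear form. -/
theorem no_fixed_form {M : Matrix α α F} (hirr : Irreducible M.charpoly) (hdeg : 2 ≤ Fintype.card α)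
    (hdet : M.det = -1) (h2 : (2 : F) ≠ 0) {w : Matrix α α F} (hw : Mᵀ * w * M = w) : w = 0 := by
  obtain ⟨h, hh⟩ : ∃ h, h = M.charpoly := ⟨_, rfl⟩
  haveI : Fact (Irreducible h) := ⟨hh ▸ hirr⟩
  have hMu : IsUnit M.det := by rw [hdet]; exact isUnit_one.neg
  have hev : ∀ c : F, h.eval c ≠ 0 := fun c => eval_ne_zero_of_irreducible (hh ▸ hirr)
    (by rw [hh, charpoly_natDegree_eq_dim]; exact hdeg) c
  let φ : AdjoinRoot h →ₐ[F] Matrix α α F := rootHom M h (by
    rw [hh, aeval_self_charpoly])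
  have hroot : φ (AdjoinRoot.root h) = M := rootHom_root _ _ _
  have hroot0 : AdjoinRoot.root h ≠ 0 := fun h0 => by
    rw [h0, map_zero] at hroot
    haveI : Nonempty α := Fintype.card_pos_iff.1 (by omega)
    rw [← hroot, det_zero] at hdet
    exact neg_ne_zero.2 one_ne_zero hdet.symm
  have hinv : φ (AdjoinRoot.root h)⁻¹ = M⁻¹ :=
    (inv_eq_right_inv (by rw [← hroot, ← map_mul, mul_inv_cancel₀ hroot0, map_one])).symm
  have hsw : Mᵀ * w = w * M⁻¹ := by
    conv_rhs => rw [← hw]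
    rw [Matrix.mul_assoc _ M, mul_nonsing_inv _ hMu, Matrix.mul_one]
  have hz := CfsgLib.SUComm.aeval_semiconj hsw h
  rw [hh, ← charpoly_transpose, aeval_self_charpoly, Matrix.zero_mul, charpoly_transpose, ← hh, ← hinv,
    aeval_algHom_apply] at hz
  by_contra hw0
  rcases eq_or_ne (aeval (AdjoinRoot.root h)⁻¹ h) 0 with h0 | h0
  · haveI : Nonempty α := Fintype.card_pos_iff.1 (by omega)
    have hinj : Function.Injective φ := φ.toRingHom.injective
    have hmin : minpoly F M⁻¹ = h := by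
      have hd : minpoly F M⁻¹ ∣ h := minpoly.dvd F _ (by rw [← hinv, aeval_algHom_apply, h0, map_zero])
      have hint : IsIntegral F M⁻¹ := Matrix.isIntegral _
      rcases (hh ▸ hirr : Irreducible h).dvd_iff.1 hd with hu | ha
      · exact absurd hu (minpoly.not_isUnit F _)
      · exact eq_of_monic_of_associated (minpoly.monic hint) (hh ▸ charpoly_monic M) ha.symm
    have hchar : M⁻¹.charpoly = h := by
      have hd := Matrix.minpoly_dvd_charpoly M⁻¹
      rw [hmin] at hd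
      exact (eq_of_monic_of_dvd_of_natDegree_le (hh ▸ charpoly_monic M) (charpoly_monic _) hd
        (by rw [hh, charpoly_natDegree_eq_dim, charpoly_natDegree_eq_dim]))
    have e1 : h.eval (-1) = (scalar α (-1 : F) - M⁻¹).det := by rw [← hchar, Matrix.eval_charpoly]
    have e2 : h.eval (-1) = (scalar α (-1 : F) - M).det := by rw [hh, Matrix.eval_charpoly]
    have hs : scalar α (-1 : F) = -1 := by rw [map_neg, map_one]
    rw [hs] at e1 e2
    have e3 : -1 - M⁻¹ = M⁻¹ * (-1 - M) := by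
      rw [Matrix.mul_sub, nonsing_inv_mul _ hMu, Matrix.mul_neg, Matrix.mul_one]; abel
    rw [e3, det_mul, det_nonsing_inv, Ring.inverse_eq_inv', hdet, ← e2, inv_neg, inv_one, neg_one_mul] at e1
    exact hev (-1) ((mul_eq_zero.1 (show (2 : F) * h.eval (-1) = 0 by linear_combination e1)).resolve_left h2)
  · exact hw0 (((isUnit_iff_ne_zero.2 h0).map φ).mul_left_eq_zero.1 hz.symm)

theorem Valid.submatrix {T : Matrix α α F} (h : Valid T) (e : γ ≃ α) : Valid (T.submatrix e e) := by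
  obtain ⟨h1, h2, h3, h4⟩ := h
  have hs : ∀ w : Matrix γ γ F, w = (w.submatrix e.symm e.symm).submatrix e e := fun w => by ext; simp
  refine ⟨by rwa [det_submatrix_equiv_self], ?_, fun w hw e' => ?_, fun w hw e' => ?_⟩
  · rw [← submatrix_one_equiv e, show T.submatrix e e - (1 : Matrix α α F).submatrix e e = (T - 1).submatrix e e from rfl,
      det_submatrix_equiv_self]
    exact h2
  · rw [hs w, h3 (w.submatrix e.symm e.symm) (by rw [transpose_submatrix, hw]; rfl) ?_]
    · rfl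
    · have := congrArg (fun X : Matrix γ γ F => X.submatrix e.symm e.symm) e'
      simp only [← submatrix_mul_equiv _ _ _ e.symm, transpose_submatrix, submatrix_submatrix,
        Equiv.self_comp_symm, submatrix_id_id] at this
      exact this
  · rw [hs w, h4 (w.submatrix e.symm e.symm) (by rw [transpose_submatrix, hw]; rfl) ?_]
    · rfl
    · have := congrArg (fun X : Matrix γ γ F => X.submatrix e.symm e.symm) e'
      simp only [← submatrix_mul_equiv _ _ _ e.symm, transpose_submatrix, submatrix_submatrix,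
        Equiv.self_comp_symm, submatrix_id_id] at this
      exact this

theorem skew_unit_eq_zero (h2 : (2 : F) ≠ 0) [Subsingleton α] {w : Matrix α α F} (hw : wᵀ = -w) : w = 0 := by
  ext i j
  obtain rfl := Subsingleton.elim i j
  have := congrFun (congrFun hw i) i
  rw [transpose_apply, Matrix.neg_apply] at this
  exact (mul_eq_zero.1 (show (2 : F) * w i i = 0 by linear_combination this)).resolve_left h2

/-- `-1` in dimension one. -/
theorem valid_neg_one (h2 : (2 : F) ≠ 0) [Subsingleton α] [Nonempty α] : Valid (-1 : Matrix α α F) := by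
  refine ⟨?_, ?_, fun w hw _ => skew_unit_eq_zero h2 hw, fun w hw _ => skew_unit_eq_zero h2 hw⟩ <;>
    obtain ⟨i⟩ := ‹Nonempty α› <;> rw [Matrix.det_eq_elem_of_subsingleton _ i, isUnit_iff_ne_zero] <;> simp [h2]
  intro h
  exact h2 (by linear_combination -h)

/-- The valid matrix of dimension at least three. -/
theorem valid_sum {m : ℕ} {M : Matrix (Fin m) (Fin m) F} (hirr : Irreducible M.charpoly) (hm : 2 ≤ m)
    (hdet : M.det = -1) (h2 : (2 : F) ≠ 0) : Valid (fromBlocks M 0 0 (-1 : Matrix (Fin 1) (Fin 1) F)) := by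
  have hdeg : 2 ≤ M.charpoly.natDegree := by rw [charpoly_natDegree_eq_dim, Fintype.card_fin]; exact hm
  have hev := fun c => eval_ne_zero_of_irreducible hirr hdeg c
  have hirrT : Irreducible Mᵀ.charpoly := by rwa [charpoly_transpose]
  have hdetT : Mᵀ.det = -1 := by rwa [det_transpose]
  have hu1 : IsUnit (M + 1).det := by
    have := isUnit_det_sub_scalar M (hev (-1))
    rwa [neg_one_smul, sub_neg_eq_add] at this
  have hu2 : IsUnit (Mᵀ + 1).det := by rw [← transpose_one, ← transpose_add, det_transpose]; exact hu1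
  have hv1 : Valid (-1 : Matrix (Fin 1) (Fin 1) F) := valid_neg_one h2
  have hM1 : IsUnit (M - 1).det := by
    have := isUnit_det_sub_scalar M (hev 1)
    rwa [one_smul] at this
  have key : ∀ {N : Matrix (Fin m) (Fin m) F}, IsUnit (N + 1).det → ∀ {v : Matrix (Fin m) (Fin 1) F},
      N * v * (-1 : Matrix (Fin 1) (Fin 1) F) = v → v = 0 := fun {N} hN v hv => by
    have : (N + 1) * v = 0 := by
      rw [Matrix.add_mul, Matrix.one_mul]
      nth_rw 2 [← hv]
      rw [Matrix.mul_neg, Matrix.mul_one, add_neg_cancel]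
    calc v = (N + 1)⁻¹ * ((N + 1) * v) := by rw [← Matrix.mul_assoc, nonsing_inv_mul _ hN, Matrix.one_mul]
      _ = 0 := by rw [this, Matrix.mul_zero]
  refine ⟨?_, ?_, fun w hw e => ?_, fun w hw e => ?_⟩
  · rw [det_fromBlocks_zero₂₁, hdet]; exact isUnit_one.neg.mul hv1.1
  · rw [← fromBlocks_one, show ∀ A B : Matrix (Fin m) (Fin m) F, ∀ A' B' : Matrix (Fin 1) (Fin 1) F,
        fromBlocks A 0 0 A' - fromBlocks B 0 0 B' = fromBlocks (A - B) 0 0 (A' - B') from fun A B A' B' => by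
        ext (i | i) (j | j) <;> simp, det_fromBlocks_zero₂₁]
    exact hM1.mul hv1.2.1
  all_goals
    rw [← fromBlocks_toBlocks w] at hw e ⊢
    rw [fromBlocks_transpose, fromBlocks_neg, fromBlocks_inj] at hw
    simp only [fromBlocks_transpose, transpose_zero, transpose_neg, transpose_one, fromBlocks_multiply,
      Matrix.zero_mul, Matrix.mul_zero, add_zero, zero_add, fromBlocks_inj] at e
  · have h12 : w.toBlocks₁₂ = 0 := key hu2 e.2.1
    have h21 : w.toBlocks₂₁ = 0 := by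
      rw [← transpose_transpose w.toBlocks₂₁, hw.2.1, h12]; simp
    have h11 : w.toBlocks₁₁ = 0 := no_fixed_form hirr (by simpa using hm) hdet h2 e.1
    rw [h11, h12, h21, skew_unit_eq_zero h2 hw.2.2.2, fromBlocks_zero]
  · have h12 : w.toBlocks₁₂ = 0 := key hu1 e.2.1
    have h21 : w.toBlocks₂₁ = 0 := by
      rw [← transpose_transpose w.toBlocks₂₁, hw.2.1, h12]; simp
    have h11 : w.toBlocks₁₁ = 0 :=
      no_fixed_form hirrT (by simpa using hm) hdetT h2 (by rw [transpose_transpose]; exact e.1)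
    rw [h11, h12, h21, skew_unit_eq_zero h2 hw.2.2.2, fromBlocks_zero]

/-- The Krylov matrix. -/
def kry {k : ℕ} (A : Matrix (Fin k) (Fin k) F) (v : Fin k → F) : Matrix (Fin k) (Fin k) F :=
  Matrix.of fun i j => ((A ^ (j : ℕ)) *ᵥ v) i

/-- `A` has a cyclic vector. -/
def Cyc {k : ℕ} (A : Matrix (Fin k) (Fin k) F) : Prop := ∃ v, IsUnit (kry A v).det

variable [Fintype F]

theorem cellFree_of_cyc (h2 : (2 : F) ≠ 0) {m : ℕ} (hm : 2 ≤ m) {a : Matrix (Fin (m + 1)) (Fin (m + 1)) F}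
    (hc : Cyc a) (hd : a.det = 1) : CellFree a := by
  classical
  obtain ⟨D, hDd, hDi, hDn⟩ := exists_alpha (F := F) hm (-1) (fun _ _ => rfl)
  obtain ⟨M, hMdef⟩ : ∃ M : Matrix (Fin m) (Fin m) F, M = LinearMap.toMatrix' (D.α : Module.End F (Fin m → F)) :=
    ⟨_, rfl⟩
  have hMv : ∀ x, M *ᵥ x = D.α x := fun x => by rw [hMdef, LinearMap.toMatrix'_mulVec]; rfl
  haveI : Nonempty (Fin m) := ⟨⟨0, by omega⟩⟩
  have hMdet : M.det = -1 := by
    rw [hMdef, LinearMap.det_toMatrix', ← LinearEquiv.coe_det, hDd]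
    simp
  have hMirr : Irreducible M.charpoly := by
    have hk : aeval M D.h = 0 := by
      have e : M = LinearMap.toMatrixAlgEquiv' (D.α : Module.End F (Fin m → F)) := hMdef
      rw [e, aeval_algEquiv, AlgHom.coe_comp, Function.comp_apply, D.kills, map_zero]
    have hint : IsIntegral F M := Matrix.isIntegral _
    have hd' := minpoly.dvd F M hk
    have has : Associated (minpoly F M) D.h := by
      obtain ⟨u, hu⟩ := hd'
      rcases hDi.isUnit_or_isUnit hu with h | h
      · exact absurd h (minpoly.not_isUnit F M)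
      · exact ⟨h.unit, hu.symm⟩
    have hirr : Irreducible (minpoly F M) := has.symm.irreducible hDi
    have : M.charpoly = minpoly F M := (eq_of_monic_of_dvd_of_natDegree_le (minpoly.monic hint)
      (charpoly_monic _) (Matrix.minpoly_dvd_charpoly M) (by
        rw [charpoly_natDegree_eq_dim, Fintype.card_fin,
          natDegree_eq_of_degree_eq (degree_eq_degree_of_associated has), hDn]))
    rwa [this]
  obtain ⟨f, hf⟩ : ∃ f, f = a.charpoly := ⟨_, rfl⟩
  have hfm : f.Monic := hf ▸ charpoly_monic a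
  have hfd : f.natDegree = m + 1 := by rw [hf, charpoly_natDegree_eq_dim, Fintype.card_fin]
  have hdv : dv f = ((-1 : Fˣ) : F) / ((-1 : Fˣ) : F) := by
    rw [dv, hfd, hf, div_self (Units.ne_zero _)]
    have := det_eq_sign_charpoly_coeff a
    rw [hd, Fintype.card_fin] at this
    exact this.symm
  have hfac := fac_root_one D hfm hfd hdv (eval_ne_zero_of_irreducible hDi (by omega) _)
    (eval_ne_zero_of_irreducible hDi (by omega) _)
  obtain ⟨v, hv⟩ := hc
  let φ : AdjoinRoot f →ₐ[F] Matrix (Fin (m + 1)) (Fin (m + 1)) F :=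
    rootHom a f (by rw [hf, aeval_self_charpoly])
  have hφr : φ (AdjoinRoot.root f) = a := rootHom_root _ _ _
  let Φ₀ : AdjoinRoot f →ₗ[F] (Fin (m + 1) → F) :=
    { toFun := fun x => φ x *ᵥ v
      map_add' := fun x y => by rw [map_add, add_mulVec]
      map_smul' := fun c x => by rw [map_smul, smul_mulVec]; rfl }
  have hsurj : Function.Surjective Φ₀ := fun z => by
    obtain ⟨c, hc⟩ : ∃ c, kry a v *ᵥ c = z := ⟨(kry a v)⁻¹ *ᵥ z, by
      rw [mulVec_mulVec, mul_nonsing_inv _ hv, one_mulVec]⟩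
    refine ⟨∑ j : Fin (m + 1), c j • AdjoinRoot.root f ^ (j : ℕ), ?_⟩
    show φ _ *ᵥ v = z
    rw [map_sum, sum_mulVec, ← hc]
    funext i
    simp only [map_smul, map_pow, hφr, smul_mulVec, Finset.sum_apply, Pi.smul_apply, smul_eq_mul]
    simp [kry, mulVec, dotProduct, mul_comm]
  haveI : Module.Finite F (AdjoinRoot f) := (AdjoinRoot.powerBasis hfm.ne_zero).finite
  have hfr : Module.finrank F (AdjoinRoot f) = Module.finrank F (Fin (m + 1) → F) := by
    rw [(AdjoinRoot.powerBasis hfm.ne_zero).finrank, AdjoinRoot.powerBasis_dim, hfd, Module.finrank_fin_fun]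
  let Φ := LinearEquiv.ofBijective Φ₀ ⟨(LinearMap.injective_iff_surjective_of_finrank_eq_finrank hfr).2 hsurj, hsurj⟩
  have hfac' : Fac (Matrix.mulVecLin a) (D.α.prodCongr (smulE (-1))) (D.α.prodCongr (smulE (-1))) :=
    hfac.equiv Φ fun x => by
      show φ (AdjoinRoot.root f * x) *ᵥ v = a *ᵥ (φ x *ᵥ v)
      rw [map_mul, hφr, mulVec_mulVec]
  obtain ⟨P, Q, hPQ⟩ := hfac'
  let E : ((Fin m → F) × F) ≃ₗ[F] (Fin (m + 1) → F) :=
    { toFun := fun p i => Sum.elim p.1 (fun _ => p.2) (finSumFinEquiv.symm i)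
      invFun := fun z => (fun i => z (finSumFinEquiv (.inl i)), z (finSumFinEquiv (.inr 0)))
      map_add' := fun p q => funext fun i => by
        rcases h : finSumFinEquiv.symm i with x | x <;> simp [h]
      map_smul' := fun c p => funext fun i => by
        rcases h : finSumFinEquiv.symm i with x | x <;> simp [h]
      left_inv := fun p => by simp
      right_inv := fun z => funext fun i => by
        rcases h : finSumFinEquiv.symm i with x | x <;> rw [Equiv.symm_apply_eq] at h <;> subst h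
        · simp
        · simp [Subsingleton.elim x 0] }
  obtain ⟨T, hTdef⟩ : ∃ T : Matrix (Fin (m + 1)) (Fin (m + 1)) F,
      T = (fromBlocks M 0 0 (-1 : Matrix (Fin 1) (Fin 1) F)).submatrix finSumFinEquiv.symm finSumFinEquiv.symm :=
    ⟨_, rfl⟩
  have hTv : ∀ p, T *ᵥ E p = E (D.α p.1, -p.2) := fun p => by
    funext i
    obtain ⟨i, rfl⟩ := finSumFinEquiv.surjective i
    rw [hTdef, ← hMv]
    simp only [E, LinearEquiv.coe_mk, LinearMap.coe_mk, AddHom.coe_mk, Equiv.symm_apply_apply]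
    rcases i with i | i
    · simp [mulVec, dotProduct, ← finSumFinEquiv.sum_comp, Fintype.sum_sum_type]
    · simp [mulVec, dotProduct, ← finSumFinEquiv.sum_comp, Fintype.sum_sum_type, Subsingleton.elim i 0]
  let mk : (((Fin m → F) × F) ≃ₗ[F] (Fin (m + 1) → F)) → Matrix (Fin (m + 1)) (Fin (m + 1)) F :=
    fun L => LinearMap.toMatrix' (E.symm.trans L).toLinearMap
  let mk' : (((Fin m → F) × F) ≃ₗ[F] (Fin (m + 1) → F)) → Matrix (Fin (m + 1)) (Fin (m + 1)) F :=
    fun L => LinearMap.toMatrix' (L.symm.trans E).toLinearMap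
  have hmk : ∀ L, mk L * mk' L = 1 := fun L => by
    refine Matrix.ext_of_mulVec_single fun k => ?_
    rw [← mulVec_mulVec, one_mulVec, LinearMap.toMatrix'_mulVec, LinearMap.toMatrix'_mulVec]
    simp
  have hconj : ∀ L z, (mk L * T * (mk L)⁻¹) *ᵥ z = conjE L (D.α.prodCongr (smulE (-1))) z := fun L z => by
    rw [inv_eq_right_inv (hmk L), ← mulVec_mulVec, ← mulVec_mulVec,
      show mk' L *ᵥ z = E (L.symm z) from LinearMap.toMatrix'_mulVec _ _, hTv, LinearMap.toMatrix'_mulVec]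
    simp
  refine ⟨T, mk P, mk Q, ?_, IsUnit.of_mul_eq_one _ (by rw [← det_mul, hmk, det_one]),
    IsUnit.of_mul_eq_one _ (by rw [← det_mul, hmk, det_one]), ?_, ?_, fun c hc => ?_⟩
  · rw [hTdef]; exact (valid_sum hMirr hm hMdet h2).submatrix _
  · refine Matrix.ext_of_mulVec_single fun k => ?_
    rw [← mulVec_mulVec, hconj, hconj]
    have h := LinearMap.congr_fun hPQ (conjE Q (D.α.prodCongr (smulE (-1))) (Pi.single k 1))
    rw [Matrix.mulVecLin_apply] at h
    rw [h]
    show conjE P _ ((conjE Q _).symm (conjE Q _ _)) = _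
    rw [LinearEquiv.symm_apply_apply]
  · rw [hTdef, det_submatrix_equiv_self, det_fromBlocks_zero₂₁, hMdet]
    simp
  · refine ⟨(fromBlocks 1 0 0 (c • 1 : Matrix (Fin 1) (Fin 1) F)).submatrix finSumFinEquiv.symm
      finSumFinEquiv.symm, ?_, ?_⟩
    · rw [hTdef, submatrix_mul_equiv, submatrix_mul_equiv, fromBlocks_multiply, fromBlocks_multiply]
      simp
    · rw [det_submatrix_equiv_self, det_fromBlocks_zero₂₁]
      simp

/-- Two-by-two matrices with an off-diagonal handle. -/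
theorem exists_comp2 (N : Matrix (Fin 2) (Fin 2) F) (hN : ¬ (N 0 1 = 0 ∧ N 1 0 = 0 ∧ N 0 0 = N 1 1)) :
    ∃ X : Matrix (Fin 2) (Fin 2) F, IsUnit X.det ∧ N * X = X * !![0, -N.det; 1, N.trace] := by
  by_cases h1 : N 1 0 = 0
  · by_cases h0 : N 0 1 = 0
    · have hne : N 1 1 - N 0 0 ≠ 0 := fun h => hN ⟨h0, h1, (sub_eq_zero.1 h).symm⟩
      refine ⟨!![1, N 0 0; 1, N 1 1], ?_, ?_⟩
      · rw [det_fin_two_of, isUnit_iff_ne_zero, one_mul, mul_one]; exact hne
      · ext i j
        fin_cases i <;> fin_cases j <;> simp [Matrix.mul_apply, det_fin_two, trace_fin_two, h0, h1] <;> ring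
    · refine ⟨!![0, N 0 1; 1, N 1 1], ?_, ?_⟩
      · rw [det_fin_two_of, isUnit_iff_ne_zero]; simpa using h0
      · ext i j
        fin_cases i <;> fin_cases j <;> simp [Matrix.mul_apply, det_fin_two, trace_fin_two, h1] <;> ring
  · refine ⟨!![1, N 0 0; 0, N 1 0], ?_, ?_⟩
    · rw [det_fin_two_of, isUnit_iff_ne_zero]; simpa using h1
    · ext i j
      fin_cases i <;> fin_cases j <;> simp [Matrix.mul_apply, det_fin_two, trace_fin_two] <;> ring

theorem valid_two (h2 : (2 : F) ≠ 0) : Valid (!![0, 1; 1, 1] : Matrix (Fin 2) (Fin 2) F) := by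
  have key : ∀ w : Matrix (Fin 2) (Fin 2) F, wᵀ = -w →
      (!![0, 1; 1, 1] : Matrix (Fin 2) (Fin 2) F) * w * !![0, 1; 1, 1] = w → w = 0 := by
    intro w hw e
    have a00 := congrFun (congrFun hw 0) 0
    have a11 := congrFun (congrFun hw 1) 1
    have a01 := congrFun (congrFun hw 0) 1
    have e01 := congrFun (congrFun e 0) 1
    simp [Matrix.mul_apply, vecMul, dotProduct, Fin.sum_univ_two] at a00 a11 a01 e01
    have z00 : w 0 0 = 0 := (mul_eq_zero.1 (show (2 : F) * w 0 0 = 0 by linear_combination a00)).resolve_left h2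
    have z11 : w 1 1 = 0 := (mul_eq_zero.1 (show (2 : F) * w 1 1 = 0 by linear_combination a11)).resolve_left h2
    have z01 : w 0 1 = 0 := (mul_eq_zero.1 (show (2 : F) * w 0 1 = 0 by
      linear_combination -e01 + a01 + z11)).resolve_left h2
    ext i j
    fin_cases i <;> fin_cases j <;> simp [z00, z11, z01]
    linear_combination a01 - z01
  have ht : (!![0, 1; 1, 1] : Matrix (Fin 2) (Fin 2) F)ᵀ = !![0, 1; 1, 1] := by
    ext i j; fin_cases i <;> fin_cases j <;> simp
  refine ⟨?_, ?_, fun w hw e => key w hw (by rwa [ht] at e), fun w hw e => key w hw (by rwa [ht] at e)⟩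
  · rw [det_fin_two_of, isUnit_iff_ne_zero]; simp
  · rw [det_fin_two, isUnit_iff_ne_zero]; simp

theorem cell_two (h2 : (2 : F) ≠ 0) {a : Matrix (Fin 2) (Fin 2) F} (hc : Cyc a) (hd : a.det = 1)
    (ht : a.trace ≠ 2) : Cell a := by
  obtain ⟨t, ht'⟩ : ∃ t, t = a.trace := ⟨_, rfl⟩
  rw [← ht'] at ht
  obtain ⟨Cm, hC⟩ : ∃ Cm : Matrix (Fin 2) (Fin 2) F, Cm = !![0, -1; 1, t] := ⟨_, rfl⟩
  obtain ⟨X₀, hX₀, eX₀⟩ : ∃ X₀, IsUnit X₀.det ∧ a * X₀ = X₀ * Cm := by
    obtain ⟨v, hv⟩ := hc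
    refine hC ▸ ht' ▸ hd ▸ exists_comp2 a fun h => ?_
    refine hv.ne_zero ?_
    rw [det_fin_two]
    simp [kry, mulVec, dotProduct, Fin.sum_univ_two, h.1, h.2.1, h.2.2]
    ring
  obtain ⟨x, y, hxy⟩ : ∃ x y : F, x - x * x - y * (y + t - t * x - 1) + 1 = 0 := by
    by_cases ht4 : t = -2
    · subst ht4
      have h8 : (8 : F) ≠ 0 := by rw [show (8 : F) = 2 * 2 * 2 by norm_num]; simp [h2]
      obtain ⟨x, hx⟩ : ∃ x : F, -8 * x + 13 = 0 := ⟨13 / 8, by field_simp; ring⟩
      refine ⟨x, -(-2 + 2 * x - 1) / 2, ?_⟩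
      field_simp
      linear_combination hx
    · have ha : t ^ 2 - 4 ≠ 0 := by
        rw [show t ^ 2 - 4 = (t - 2) * (t + 2) by ring]
        exact mul_ne_zero (sub_ne_zero.2 ht) fun h => ht4 (by linear_combination h)
      obtain ⟨B, hB⟩ : ∃ B, B = 4 - 2 * t * (t - 1) := ⟨_, rfl⟩
      obtain ⟨C₀, hC₀⟩ : ∃ C₀, C₀ = (t - 1) ^ 2 + 4 := ⟨_, rfl⟩
      obtain ⟨u, x, hux⟩ := FiniteField.exists_root_sum_quadratic (f := (X : F[X]) ^ 2)
        (g := -(C (t ^ 2 - 4) * X ^ 2 + C B * X + C C₀)) (degree_X_pow 2)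
        (by rw [degree_neg]; exact degree_quadratic ha)
        (Nat.odd_iff.1 (odd_card_of_two_ne_zero h2))
      simp at hux
      subst hB hC₀
      refine ⟨x, (u - (t - t * x - 1)) / 2, ?_⟩
      field_simp
      linear_combination -hux
  obtain ⟨Qm, hQ⟩ : ∃ Qm : Matrix (Fin 2) (Fin 2) F, Qm = !![x, y; y + t - t * x - 1, 1 - x] := ⟨_, rfl⟩
  obtain ⟨Pm, hP⟩ : ∃ Pm : Matrix (Fin 2) (Fin 2) F,
      Pm = !![-(y + t - t * x - 1), x - 1; x + t * (y + t - t * x - 1), y + t * (1 - x)] := ⟨_, rfl⟩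
  have hCQ : Cm * Qm = Pm := by
    rw [hC, hQ, hP]
    ext i j
    fin_cases i <;> fin_cases j <;> simp [Matrix.mul_apply] <;> ring
  have hQd : Qm.det = -1 := by rw [hQ, det_fin_two_of]; linear_combination hxy
  have hQt : Qm.trace = 1 := by rw [hQ, trace_fin_two_of]; ring
  have hPd : Pm.det = -1 := by rw [← hCQ, det_mul, hQd, hC, det_fin_two_of]; ring
  have hPt : Pm.trace = 1 := by rw [hP, trace_fin_two_of]; ring
  obtain ⟨Y, hY, eY⟩ := exists_comp2 Qm fun h => by
    rw [hQ] at h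
    simp at h
    obtain ⟨h1, h2', h3⟩ := h
    refine ht ?_
    subst h1
    linear_combination 2 * h2' - (-t) * h3
  obtain ⟨X, hX, eX⟩ := exists_comp2 Pm fun h => by
    rw [hP] at h
    simp at h
    obtain ⟨h1, h2', h3⟩ := h
    have hx : x = 1 := by linear_combination h1
    subst hx
    apply ht
    linear_combination -2 * h2' - t * h3
  rw [hQd, hQt, neg_neg] at eY
  rw [hPd, hPt, neg_neg] at eX
  have fold : ∀ {N Z : Matrix (Fin 2) (Fin 2) F}, IsUnit Z.det → N * Z = Z * !![0, 1; 1, 1] →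
      N = Z * !![0, 1; 1, 1] * Z⁻¹ := fun {N Z} hZ e => by
    rw [← e, Matrix.mul_assoc, mul_nonsing_inv _ hZ, Matrix.mul_one]
  refine ⟨!![0, 1; 1, 1], X₀ * X, X₀ * Y, valid_two h2, by rw [det_mul]; exact hX₀.mul hX,
    by rw [det_mul]; exact hX₀.mul hY, ?_⟩
  rw [Matrix.mul_inv_rev, Matrix.mul_inv_rev,
    show X₀ * X * !![0, 1; 1, 1] * (X⁻¹ * X₀⁻¹) = X₀ * (X * !![0, 1; 1, 1] * X⁻¹) * X₀⁻¹ by
      simp only [Matrix.mul_assoc],
    show X₀ * Y * !![0, 1; 1, 1] * (Y⁻¹ * X₀⁻¹) = X₀ * (Y * !![0, 1; 1, 1] * Y⁻¹) * X₀⁻¹ by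
      simp only [Matrix.mul_assoc],
    ← fold hX eX, ← fold hY eY, ← hCQ]
  simp only [← Matrix.mul_assoc, eX₀]

theorem cell_one (h2 : (2 : F) ≠ 0) {a : Matrix (Fin 1) (Fin 1) F} (hd : a.det = 1) : Cell a := by
  have ha : a = 1 := by
    ext i j
    obtain rfl := Subsingleton.elim i j
    rw [Matrix.one_apply_eq, ← Matrix.det_eq_elem_of_subsingleton a i, hd]
  exact ⟨-1, 1, 1, valid_neg_one h2, by simp, by simp, by rw [ha]; simp⟩

end CfsgLib.OmegaComm
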